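import Cfsg.Agent.Lib.Perm.Sharp3
import Cfsg.Agent.Lib.Grp.Orb

/-!
# Abelian Sylow subgroups containing the centralisers of their elements, and Zassenhaus groups
-/

set_option autoImplicit false

namespace Cfsg.Lib.Spec2

open Subgroup MulAction Cfsg.Lib Cfsg.Lib.BG Cfsg.Lib.Transfer Cfsg.Lib.Perm

variable {G : Type*} [Group G] [Finite G] {p : ℕ} [hp : Fact p.Prime]

/-- Every Sylow `p`-subgroup is the centraliser of each of its non-identity elements. -/
def SCC (p : ℕ) (G : Type*) [Group G] : Prop :=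
  ∀ Q : Sylow p G, ∀ y ∈ (Q : Subgroup G), y ≠ 1 → 𝐂[y] = Q

omit [Finite G] hp in
theorem SCC.of_abelian (h1 : ∀ Q : Sylow p G, ∀ y ∈ (Q : Subgroup G), y ≠ 1 → IsPGroup p 𝐂[y])
    (h2 : ∀ Q : Sylow p G, IsMulCommutative (Q : Subgroup G)) : SCC p G := fun Q y hy y1 =>
  Q.is_maximal' (h1 Q y hy y1) fun g hg =>
    mem_cent1.2 (congrArg Subtype.val ((h2 Q).is_comm.comm ⟨g, hg⟩ ⟨y, hy⟩))

theorem sylow_comm_of (P : Sylow p G) (h : IsMulCommutative (P : Subgroup G)) (Q : Sylow p G) :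
    IsMulCommutative (Q : Subgroup G) :=
  ⟨⟨fun a b => (P.equiv Q).symm.injective (by rw [map_mul, map_mul, h.is_comm.comm])⟩⟩

namespace SCC

variable (h : SCC p G)
include h

omit [Finite G] in
theorem free {P Q : Sylow p G} {u : G} (hu : u ∈ (P : Subgroup G)) (e : u • Q = Q) (hne : Q ≠ P) :
    u = 1 := by
  by_contra u1
  have h1 : u ∈ (P : Subgroup G) ⊓ Q := P.isPGroup'.inf_normalizer_sylow Q ▸
    ⟨hu, Sylow.smul_eq_iff_mem_normalizer.1 e⟩
  exact hne (Sylow.ext ((h Q u h1.2 u1).symm.trans (h P u hu u1)))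

theorem dvd_pred (P : Sylow p G) : Nat.card P ∣ Nat.card (Sylow p G) - 1 := by
  have := Grp.card_dvd_ncard_of_free (Q := (P : Subgroup G)) (S := {Q : Sylow p G | Q ≠ P})
    (fun g hg Q hQ e => hQ (by
      rw [← smul_left_cancel_iff g, e, eq_comm, Sylow.smul_eq_iff_mem_normalizer]
      exact le_normalizer hg)) fun g hg Q hQ e => h.free hg e hQ
  rwa [show {Q : Sylow p G | Q ≠ P} = {P}ᶜ from rfl, Set.ncard_compl, Set.ncard_singleton] at this

theorem card_norm_le (P : Sylow p G) (h1 : (P : Subgroup G) ≠ ⊥) :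
    Nat.card 𝐍((P : Subgroup G)) ≤ Nat.card P * (Nat.card P - 1) := by
  obtain ⟨u, hu, u1⟩ := exists_ne_one h1
  let N := 𝐍((P : Subgroup G))
  have e1 := BG.card_mul_relIndex (le_normalizer : (P : Subgroup G) ≤ N)
  have e2 : (P : Subgroup G).relIndex N ≤ Nat.card P - 1 := by
    letI : MulAction N G := MulAction.compHom G (MulAut.conj.comp N.subtype)
    have e3 : orbit N u ⊆ ((P : Subgroup G) : Set G) \ {1} := by
      rintro _ ⟨g, rfl⟩
      exact ⟨conj_mem_of_norm g.2 hu, fun e => u1 (by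
        have e' : (g : G) * u * (g : G)⁻¹ = 1 := e
        simpa using e')⟩
    have e4 := Set.ncard_le_ncard e3
    rw [Set.ncard_diff_singleton_of_mem (P : Subgroup G).one_mem, ← index_stabilizer] at e4
    rw [show stabilizer N u = (P : Subgroup G).subgroupOf N from Subgroup.ext fun g => by
      rw [mem_subgroupOf, ← h P u hu u1, mem_cent1, ← mul_inv_eq_iff_eq_mul]; rfl] at e4
    exact e4
  rw [← e1]
  exact Nat.mul_le_mul_left _ e2

theorem card_sylow (P : Sylow p G) {q : ℕ} (hq : Nat.card P = q) (h1 : Nat.card G ∣ q * (q ^ 2 - 1))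
    (h2 : q * (q - 1) < Nat.card G) (q1 : 1 < q) : Nat.card (Sylow p G) = q + 1 := by
  have e1 := h.card_norm_le P (fun e => by rw [e, card_bot] at hq; omega)
  obtain ⟨k, hk⟩ := h.dvd_pred P
  have e2 : Nat.card (Sylow p G) * Nat.card 𝐍((P : Subgroup G)) = Nat.card G :=
    P.card_eq_index_normalizer ▸ 𝐍((P : Subgroup G)).index_mul_card
  obtain ⟨w, hw⟩ := card_dvd (le_normalizer : (P : Subgroup G) ≤ 𝐍((P : Subgroup G)))
  rw [hq] at e1 hk hw
  have e0 : 0 < Nat.card (Sylow p G) := Nat.card_pos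
  have e3 : Nat.card (Sylow p G) = q * k + 1 := by omega
  rw [← e2, hw, e3, mul_left_comm, Nat.mul_dvd_mul_iff_left (by omega)] at h1
  obtain ⟨v, hv⟩ := (dvd_mul_right _ w).trans h1
  obtain ⟨r, rfl⟩ : ∃ r, q = r + 1 := ⟨q - 1, by omega⟩
  have e4 : (r + 1) ^ 2 - 1 = r * (r + 2) := Nat.sub_eq_of_eq_add (by ring)
  rw [e4] at hv
  have e5 : r + 1 ∣ v + 1 := (Nat.dvd_add_iff_right (dvd_mul_right (r + 1) (k * v))).2
    ⟨r + 1, by nlinarith⟩
  have e6 := Nat.le_of_dvd (by omega) e5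
  rcases k with _ | _ | k
  · rw [← e2, e3] at h2; omega
  · omega
  · nlinarith [Nat.mul_le_mul (le_refl ((r + 1) * (k + 1 + 1) + 1)) (show r ≤ v by omega)]

theorem exists_smul {P Q R : Sylow p G} (hn : Nat.card (Sylow p G) = Nat.card P + 1) (hQ : Q ≠ P)
    (hR : R ≠ P) : ∃ u ∈ (P : Subgroup G), u • Q = R := by
  have hm : ∀ u : (P : Subgroup G), (u : G) • Q ≠ P := fun u e => hQ (by
    rw [← smul_left_cancel_iff (u : G), e, eq_comm, Sylow.smul_eq_iff_mem_normalizer]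
    exact le_normalizer u.2)
  let f : ↥(P : Subgroup G) → ↥({P}ᶜ : Set (Sylow p G)) := fun u => ⟨(u : G) • Q, hm u⟩
  have hf : Function.Injective f := fun u v e => Subtype.ext (by
    rw [← inv_mul_eq_one]
    exact h.free (mul_mem (inv_mem u.2) v.2) (by
      rw [mul_smul, ← show (u : G) • Q = (v : G) • Q from congrArg Subtype.val e, inv_smul_smul]) hQ)
  obtain ⟨u, hu⟩ := ((Nat.bijective_iff_injective_and_card f).2 ⟨hf, by
    rw [Nat.card_coe_set_eq, Set.ncard_compl, Set.ncard_singleton, hn]; rfl⟩).2 ⟨R, hR⟩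
  exact ⟨u, u.2, congrArg Subtype.val hu⟩

theorem zt (P : Sylow p G) (hn : Nat.card (Sylow p G) = Nat.card P + 1) (q1 : 1 < Nat.card P) :
    ZT G (Sylow p G) := by
  have hn' : ∀ Q : Sylow p G, Nat.card (Sylow p G) = Nat.card Q + 1 := fun Q => by
    rw [hn, Nat.card_congr (P.equiv Q).toEquiv]
  refine ⟨fun a b c d hab hcd => ?_, fun g a b c hab hbc hac ha hb hc => ?_, by omega⟩
  · obtain ⟨g, rfl⟩ := exists_smul_eq G a c
    obtain ⟨u, hu, e⟩ := h.exists_smul (hn' (g • a)) (Q := g • b)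
      (fun e => hab (smul_left_cancel g e).symm) hcd.symm
    exact ⟨u * g, by rw [mul_smul, Sylow.smul_eq_iff_mem_normalizer]; exact le_normalizer hu,
      by rw [mul_smul, e]⟩
  · obtain ⟨u, hu, e⟩ := h.exists_smul (hn' a) hab.symm hac.symm
    have h1 := conj_mem_of_norm (Sylow.smul_eq_iff_mem_normalizer.1 ha) hu
    have h2 := h.free (mul_mem (inv_mem hu) h1) (Q := b) (by
      rw [mul_smul, mul_smul, mul_smul, inv_smul_eq_iff.2 hb.symm, e, hc, ← e, inv_smul_smul]) hab.symm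
    have u1 : u ≠ 1 := by rintro rfl; exact hbc ((one_smul _ _).symm.trans e)
    exact h.free (P := a) (h a u hu u1 ▸ mem_cent1.2 (by
      rw [inv_mul_eq_one] at h2; exact mul_inv_eq_iff_eq_mul.1 h2.symm)) hb hab.symm

end SCC

theorem conj_free_dvd {Q : Subgroup G} {S : Set G} (h1 : ∀ g ∈ Q, ∀ y ∈ S, g * y * g⁻¹ ∈ S)
    (h2 : ∀ g ∈ Q, ∀ y ∈ S, g * y = y * g → g = 1) : Nat.card Q ∣ S.ncard :=
  letI : MulAction G G := MulAction.compHom G MulAut.conj
  Grp.card_dvd_ncard_of_free h1 fun g hg y hy e => h2 g hg y hy (mul_inv_eq_iff_eq_mul.1 e)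

variable {Ω : Type*} [MulAction G Ω]

omit [Finite G] in
theorem card_split [Finite G] (A B : G → Prop) :
    Nat.card {g // A g} = Nat.card {g // A g ∧ B g} + Nat.card {g // A g ∧ ¬ B g} := by
  classical
  rw [← Nat.card_sum]
  exact Nat.card_congr ((Equiv.sumCompl fun g : {g // A g} => B g).symm.trans (Equiv.sumCongr
    (Equiv.subtypeSubtypeEquivSubtypeInter _ _) (Equiv.subtypeSubtypeEquivSubtypeInter _ fun g => ¬ B g)))

/-- Counting involutions through the points they move. -/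
theorem inv_count (h : ZT G Ω) {a b : Ω} (hab : a ≠ b) (ho : Odd (Nat.card (zker G a))) :
    Nat.card {g : G // orderOf g = 2} * (Nat.card Ω - 2) ≤
      Nat.card Ω * (Nat.card Ω - 1) * Nat.card {g : G // orderOf g = 2 ∧ g • a = b} ∧
    Nat.card Ω * (Nat.card Ω - 1) * Nat.card {g : G // orderOf g = 2 ∧ g • a = b} ≤
      Nat.card {g : G // orderOf g = 2} * Nat.card Ω := by
  have k : ∀ k g : G, (∀ c : Ω, g • c ≠ c) → ∀ c : Ω, (k * g * k⁻¹) • c ≠ c := fun k g hg c e =>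
    hg (k⁻¹ • c) (by rwa [mul_smul, mul_smul, smul_eq_iff_eq_inv_smul] at e)
  have e0 := h.card_mul_moved hab (fun g => orderOf g = 2 ∧ ∀ c : Ω, g • c ≠ c)
    (fun k' g hg => ⟨by rw [Inv.orderOf_conj', hg.1], k k' g hg.2⟩) (m := 0) fun g hg => by
      have : IsEmpty (fixedBy Ω g) := ⟨fun x => hg.2 x x.2⟩
      exact Nat.card_of_isEmpty
  have e2 := h.card_mul_moved hab (fun g => orderOf g = 2 ∧ ¬ ∀ c : Ω, g • c ≠ c)
    (fun k' g hg => ⟨by rw [Inv.orderOf_conj', hg.1], fun e => hg.2 (by simpa [mul_assoc] using k k'⁻¹ _ e)⟩)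
    (m := 2) fun g hg => by
      have g1 : g ≠ 1 := by rintro rfl; simp at hg
      rcases h.trichotomy g with e | ⟨c, e⟩ | ⟨c, d, hcd, e⟩
      · exact (hg.2 e).elim
      · exact absurd (hg.1 ▸ Subgroup.orderOf_dvd_natCard _ e) (h.card_zker_eq a c ▸ ho).not_two_dvd_nat
      · exact h.card_fixedBy_stab2 hcd e g1
  rw [card_split _ fun g => ∀ c : Ω, g • c ≠ c, card_split (fun g : G => orderOf g = 2 ∧ g • a = b)
    fun g => ∀ c : Ω, g • c ≠ c, mul_add, add_mul, add_mul]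
  simp only [and_right_comm (b := _ • a = b)]
  rw [← e0, ← e2, Nat.sub_zero]
  constructor <;> gcongr <;> omega

end Cfsg.Lib.Spec2
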