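import Cfsg.Agent.Lib.Spec2.CCZ
import Cfsg.Agent.Lib.CharDeg.PSL2Deg
import Cfsg.Agent.Lib.Char.DefectZero

/-!
# Character degrees forcing an isolated prime
-/

set_option autoImplicit false

namespace Cfsg.Lib.Spec2

open Subgroup Cfsg.Lib Cfsg.Lib.BG Cfsg.Lib.Transfer Cfsg.Lib.Char Cfsg.Lib.GLTwo Cfsg.Lib.PSL2
open scoped MatrixGroups

variable {G : Type*} [Group G] [Finite G]

theorem dvd_one_of_vanish {g : G} (g1 : g ≠ 1) {m : ℕ} (hm : m ≠ 0)
    (h : ∀ χ : IrrCharacter G, χ = irrOne G ∨ (χ : G → ℂ) g = 0 ∨ m ∣ charDegree (χ : G → ℂ)) :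
    m ∣ 1 := by
  classical
  have e := sum_irr_apply_one_mul_apply_of_ne_one g1
  rw [← Finset.add_sum_erase _ _ (Finset.mem_univ (irrOne G)), irrOne_apply, irrOne_apply] at e
  have hm' : (m : ℂ) ≠ 0 := Nat.cast_ne_zero.2 hm
  refine nat_dvd_of_isIntegral_div hm ?_
  rw [show ((1 : ℕ) : ℂ) / m = -∑ χ ∈ Finset.univ.erase (irrOne G),
    (χ : G → ℂ) 1 * (χ : G → ℂ) g / m by
      rw [← Finset.sum_div, ← neg_div]; congr 1; push_cast; linear_combination e]
  refine (IsIntegral.sum _ fun χ hχ => ?_).neg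
  rcases h χ with e | e | ⟨c, e⟩
  · exact absurd e (Finset.ne_of_mem_erase hχ)
  · rw [e, mul_zero, zero_div]; exact isIntegral_zero
  · rw [χ.2.apply_one_eq, e, show ((m * c : ℕ) : ℂ) * (χ : G → ℂ) g / m = c * (χ : G → ℂ) g by
      push_cast; field_simp]
    exact (isIntegral_natCast c).mul (χ.2.isCharacter.isIntegral g)

theorem vanish_of_dvd {u v r : ℕ} (hr : r.Prime) (hG : Nat.card G = u * v) (hv : r.Coprime v)
    {χ : IrrCharacter G} (hd : u ∣ charDegree (χ : G → ℂ)) {g : G} (hg : r ∣ orderOf g) :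
    (χ : G → ℂ) g = 0 :=
  χ.2.apply_eq_zero_of_defect_zero hr (((hv.pow_left _).dvd_of_dvd_mul_right
    (hG ▸ Nat.ordProj_dvd _ r)).trans hd) hg

theorem isolated_of_deg {q a b p : ℕ} (hp : p.Prime) (hpq : p ∣ q) (hG : Nat.card G = q * (a * b))
    (h1 : q.Coprime a) (h2 : q.Coprime b) (h3 : a.Coprime b) (a1 : 1 < a) (b1 : 1 < b)
    (h : ∀ χ : IrrCharacter G, χ = irrOne G ∨ q ∣ charDegree (χ : G → ℂ) ∨
      a ∣ charDegree (χ : G → ℂ) ∨ b ∣ charDegree (χ : G → ℂ)) {g : G} (hg : p ∣ orderOf g)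
    {r : ℕ} (hr : r.Prime) (hrg : r ∣ orderOf g) : r ∣ q := by
  have g1 : g ≠ 1 := by rintro rfl; exact hp.one_lt.ne' (by simpa using hg)
  have k : ∀ χ : IrrCharacter G, q ∣ charDegree (χ : G → ℂ) → (χ : G → ℂ) g = 0 := fun χ e =>
    vanish_of_dvd hp hG ((h1.mul_right h2).coprime_dvd_left hpq) e hg
  rcases (Nat.Prime.dvd_mul hr).1 (hG ▸ hrg.trans (orderOf_dvd_natCard g)) with e | e
  · exact e
  rcases (Nat.Prime.dvd_mul hr).1 e with e | e
  · refine absurd (Nat.dvd_one.1 (dvd_one_of_vanish g1 (by omega) fun χ => ?_)) b1.ne'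
    rcases h χ with e' | e' | e' | e'
    exacts [.inl e', .inr (.inl (k χ e')), .inr (.inl (vanish_of_dvd hr (u := a) (v := q * b)
      (by rw [hG]; ring) ((h1.symm.mul_right h3).coprime_dvd_left e) e' hrg)), .inr (.inr e')]
  · refine absurd (Nat.dvd_one.1 (dvd_one_of_vanish g1 (by omega) fun χ => ?_)) a1.ne'
    rcases h χ with e' | e' | e' | e'
    exacts [.inl e', .inr (.inl (k χ e')), .inr (.inr e'), .inr (.inl (vanish_of_dvd hr (u := b)
      (v := q * a) (by rw [hG]; ring) ((h2.symm.mul_right h3.symm).coprime_dvd_left e) e' hrg))]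

theorem isPGroup_cent_of_isolated {p : ℕ} [hp : Fact p.Prime]
    (h : ∀ g : G, p ∣ orderOf g → ∀ r : ℕ, r.Prime → r ∣ orderOf g → r = p) {Q : Subgroup G}
    (hQ : IsPGroup p Q) {y : G} (hy : y ∈ Q) (y1 : y ≠ 1) : IsPGroup p 𝐂[y] := by
  obtain ⟨k, hk⟩ := IsPGroup.iff_orderOf.1 hQ ⟨y, hy⟩
  rw [orderOf_mk] at hk
  refine IsPGroup.iff_card.2 ⟨_, Nat.eq_prime_pow_of_unique_prime_dvd Nat.card_pos.ne' fun {r} hr e => ?_⟩
  by_contra hne
  have := Fact.mk hr
  obtain ⟨x, hx⟩ := exists_prime_orderOf_dvd_card' r e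
  rw [← orderOf_coe] at hx
  have e1 := Commute.orderOf_mul_eq_mul_orderOf_of_coprime (mem_cent1.1 x.2)
    (by rw [hx, hk]; exact ((Nat.coprime_primes hr hp.out).2 hne).pow_right _)
  have k0 : k ≠ 0 := by rintro rfl; exact y1 (orderOf_eq_one_iff.1 hk)
  exact hne (h _ (by rw [e1, hk]; exact (dvd_pow_self p k0).mul_left _) r hr
    (by rw [e1, hx]; exact dvd_mul_right _ _))

theorem psl_deg {F : Type*} [Field F] [Fintype F] (h4 : Fintype.card F % 4 ≠ 3)
    (χ : IrrCharacter PSL(2, F)) : χ = irrOne _ ∨ charDegree χ.1 = Fintype.card F ∨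
      charDegree χ.1 = Fintype.card F - 1 ∨ charDegree χ.1 = Fintype.card F + 1 ∨
      (Fintype.card F % 2 = 1 ∧ charDegree χ.1 = (Fintype.card F + 1) / 2) := by
  classical
  obtain ⟨a, b, h'⟩ := exists_no_root F
  haveI := Fact.mk h'
  have e0 : charDegree (fun g : SL(2, F) => χ.1 (g : PSL(2, F))) = charDegree χ.1 := rfl
  rcases irr_cases_deg a b χ.2.inflate with e | e | e | e | e | ⟨⟨θ, χ', e1, e2, hp⟩, ho, -⟩
  · refine .inl (Subtype.ext (funext fun g => ?_))
    obtain ⟨g, rfl⟩ := QuotientGroup.mk_surjective g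
    exact congrFun e.1 g
  · exact .inr (.inl e.2)
  · exact .inr (.inr (.inr (.inl e.2)))
  · exact .inr (.inr (.inl e.2))
  · exact .inr (.inr (.inr (.inr e.2)))
  have h1 := hp.apply_of_isConj (isConj_sig_of_scal scal_neg_one)
  have h2 := hp.apply_one
  have h3 : ((-1 : SL(2, F)) : PSL(2, F)) = ((1 : SL(2, F)) : PSL(2, F)) :=
    (QuotientGroup.eq_one_iff _).2 (mem_center_SL2_iff.2 (.inr rfl))
  simp only [h3] at h1
  rw [h1, show cusp θ (tg (-1)) = _ from rcusp_scal θ scal_neg_one,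
    show cusp θ 1 = _ from (congrArg _ (map_one tg).symm).trans (rs_cusp_apply_one θ)] at h2
  have hc : Nat.card (normU a b).ker = 2 * ((Fintype.card F + 1) / 2) := by
    rw [card_ker_normU, Nat.card_eq_fintype_card]; omega
  let z : (normU a b).ker := ⟨-1, Units.ext (by simp [normU_coe])⟩
  have h2' : (2 : F) ≠ 0 := fun e => by
    have := (FiniteField.even_card_iff_char_two (F := F)).1 (CharP.ringChar_of_prime_eq_zero Nat.prime_two
      (by exact_mod_cast e))
    omega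
  have key := (hom_apply_of_cyclic hc e1 e2 z).2 (fun e => by
    have e' := congrArg (fun w : (normU a b).ker =>
      ((w : (QuadraticAlgebra F a b)ˣ) : QuadraticAlgebra F a b).re) e
    have ho' : Odd ((Fintype.card F + 1) / 2) := Nat.odd_iff.2 (by omega)
    simp [z, ho'.neg_one_pow, QuadraticAlgebra.re_one] at e'
    exact h2' (by linear_combination -e'))
  have key' := congrArg Units.val key
  rw [res1_apply] at key'
  have e5 : res θ (((-1 : SL(2, F)) : Matrix (Fin 2) (Fin 2) F) 0 0) = -1 := by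
    simpa [z] using key'
  erw [e5] at h2
  have e6 : ((Fintype.card F : ℂ) - 1) = 0 := by linear_combination -h2
  have := Fintype.one_lt_card (α := F)
  exact absurd (by exact_mod_cast sub_eq_zero.1 e6) this.ne'

omit [Finite G] in
def degEquiv (d : ℕ) : {χ : IrrCharacter G // (χ : G → ℂ) 1 = (d : ℂ)} ≃
    {χ : IrrCharacter G // charDegree (χ : G → ℂ) = d} :=
  Equiv.subtypeEquivRight fun χ => by rw [χ.2.apply_one_eq, Nat.cast_inj]

theorem exists_irr_equiv {L : Type*} [Group L] [Finite L]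
    (h : ∀ d : ℕ, Nat.card {χ : IrrCharacter G // (χ : G → ℂ) 1 = (d : ℂ)} =
      Nat.card {χ : IrrCharacter L // (χ : L → ℂ) 1 = (d : ℂ)}) :
    Nat.card G = Nat.card L ∧ ∃ e : IrrCharacter G ≃ IrrCharacter L,
      ∀ χ, charDegree (e χ : L → ℂ) = charDegree (χ : G → ℂ) := by
  let e : IrrCharacter G ≃ IrrCharacter L := Equiv.ofFiberEquiv
    (f := fun χ => charDegree (χ : G → ℂ)) (g := fun χ => charDegree (χ : L → ℂ)) fun d =>
      (degEquiv d).symm.trans ((Finite.card_eq.1 (h d)).some.trans (degEquiv d))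
  have he : ∀ χ, charDegree (e χ : L → ℂ) = charDegree (χ : G → ℂ) := Equiv.ofFiberEquiv_map
    (f := fun χ : IrrCharacter G => charDegree (χ : G → ℂ))
    (g := fun χ : IrrCharacter L => charDegree (χ : L → ℂ)) _
  refine ⟨Nat.cast_injective (R := ℂ) ?_, e, he⟩
  rw [← sum_irr_apply_one_sq, ← sum_irr_apply_one_sq, ← e.sum_comp]
  exact Finset.sum_congr rfl fun χ _ => by rw [χ.2.apply_one_eq, (e χ).2.apply_one_eq, he]

end Cfsg.Lib.Spec2
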