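import Cfsg.Agent.Lib.Spec2.DegL2
import Cfsg.Agent.Lib.FGS.FrobCount

/-!
# Numbers of elements of each order in Zassenhaus groups
-/

set_option autoImplicit false

namespace Cfsg.Lib.Spec2

open Subgroup MulAction Cfsg.Lib Cfsg.Lib.BG Cfsg.Lib.Transfer Cfsg.Lib.Perm

variable {G : Type*} [Group G] [Finite G]

variable (G) in
/-- The number of elements of order `n`. -/
noncomputable abbrev nse (n : ℕ) : ℕ := Nat.card {g : G // orderOf g = n}

theorem sum_nse {m : ℕ} (hm : m ≠ 0) :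
    ∑ n ∈ m.divisors, nse G n = Nat.card {g : G // g ^ m = 1} := by
  classical
  have := Fintype.ofFinite G
  simp only [nse, card_subtype_eq_filter]
  exact sum_card_orderOf_eq_card_pow_eq_one hm

omit [Finite G] in
theorem nse_one : nse G 1 = 1 := by simp [nse]

theorem prime_dvd_nse {r : ℕ} (hr : r.Prime) (h : r ∣ Nat.card G) : r ∣ nse G r + 1 := by
  have := FGS.dvd_card_pow_eq_one h
  rwa [← sum_nse hr.ne_zero, hr.sum_divisors, nse_one] at this

theorem even_nse {n : ℕ} (h1 : n ≠ 1) (h2 : n ≠ 2) : Even (nse G n) := by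
  classical
  have := Fintype.ofFinite G
  rw [nse, card_subtype_eq_filter, ← ZMod.natCast_eq_zero_iff_even, Finset.cast_card]
  refine Finset.sum_involution (fun g _ => g⁻¹) (fun _ _ => rfl) (fun g hg _ e => ?_) (by simp) (by simp)
  have := (Nat.dvd_prime Nat.prime_two).1 (orderOf_dvd_of_pow_eq_one (x := g)
    (by rw [sq]; nth_rw 1 [← e]; simp))
  rw [(Finset.mem_filter.1 hg).2] at this
  omega

variable {Ω : Type*} [MulAction G Ω]

theorem nse_zt (h : ZT G Ω) {a : Ω} {p : ℕ} [hp : Fact p.Prime] (hE : IsElementaryAbelian p (zker G a))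
    (n : ℕ) : n = 1 ∨ nse G n = Nat.card (zker G a) ^ 2 - 1 ∨ Nat.card (zker G a) ∣ nse G n := by
  have := h.finite_pts
  have c1 := h.card_zker a
  have c2 := h.two_le_card_zker a
  obtain ⟨k, hk⟩ := (PGroup.elemAb_isPGroup hE).exists_card_eq
  have hq : p ∣ Nat.card (zker G a) := hk ▸ dvd_pow_self p (by rintro rfl; simp [hk] at c2)
  by_cases h1 : n = 1
  · exact .inl h1
  by_cases h2 : n = p
  · subst h2
    have k : ∀ g : G, orderOf g = n → ∃ c : Ω, g ∈ zker G c := fun g hg => by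
      rcases h.trichotomy g with e | e | ⟨c, d, hcd, e⟩
      · classical
        have := Fintype.ofFinite Ω
        obtain ⟨c, hc⟩ := Equiv.Perm.exists_fixed_point_of_prime (p := n) (n := 1) (σ := toPerm g)
          (fun e => hp.out.one_lt.ne' (Nat.dvd_one.1 ((Nat.dvd_add_right hq).1
            (by rwa [c1, Nat.card_eq_fintype_card]))))
          (by rw [pow_one, ← hg]; exact (map_pow (toPermHom G Ω) _ _).symm.trans (by rw [pow_orderOf_eq_one, map_one]))
        exact (e c hc).elim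
      · exact e
      · have e1 := (hg ▸ Subgroup.orderOf_dvd_natCard _ e).trans (h.card_stab2_dvd hcd)
        rw [h.card_zker_eq c a] at e1
        exact absurd (Nat.dvd_one.1 ((Nat.dvd_sub_iff_right (by omega) hq).1 e1)) h1
    have g1 : ∀ g : G, orderOf g = n → g ≠ 1 := fun g hg e => h1 (by rw [← hg, e, orderOf_one])
    refine .inr (.inl ?_)
    rw [nse, h.card_fix_one a _ (fun k g hg => by rw [Inv.orderOf_conj', hg]) fun g hg =>
      let ⟨c, hc⟩ := k g hg; h.card_fixedBy_zker hc (g1 g hg), ← c1,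
      show _ ^ 2 - 1 = _ from Nat.sq_sub_sq _ 1]
    congr 1
    refine Eq.trans ?_ (Set.ncard_diff_singleton_of_mem (s := (zker G a : Set G)) (zker G a).one_mem)
    refine Nat.card_congr (Equiv.subtypeEquivRight fun g => ⟨fun hg => ⟨?_, g1 g hg.1⟩, fun hg =>
      ⟨PGroup.elemAb_orderOf hE hg.1 hg.2, zker_fix hg.1⟩⟩)
    obtain ⟨c, hc⟩ := k g hg.1
    rwa [h.eq_of_zker_fix hc (g1 g hg.1) hg.2]
  refine .inr (.inr (conj_free_dvd (S := {g | orderOf g = n})
    (fun g _ y hy => (Inv.orderOf_conj' _ _).trans hy) fun g hg y hy e => by_contra fun g1 => ?_))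
  by_cases y1 : y = 1
  · exact h1 (by rw [← show orderOf y = n from hy, y1, orderOf_one])
  · exact h2 ((show orderOf y = n from hy).symm.trans
      (PGroup.elemAb_orderOf hE (h.mem_zker_of_comm hg g1 e.symm) y1))

theorem nse_arith {q a t c : ℕ} (q2 : 2 ≤ q) (h1 : a * (q ^ 2 - 1) + q * t + 1 = (q ^ 2 - 1) * c)
    (h2 : (q ^ 2 - 1) * c + (q ^ 2 - 1) ≤ q * (q ^ 2 - 1)) : c + 1 = q := by
  obtain ⟨w, hw⟩ : ∃ w, q ^ 2 = w + 1 := ⟨q ^ 2 - 1, by have := pow_pos (by omega : 0 < q) 2; omega⟩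
  rw [hw, Nat.add_sub_cancel] at h1 h2
  have w0 : 0 < w := by nlinarith
  have e1 : c + 1 ≤ q := by nlinarith
  have e2 : a < c := by nlinarith
  obtain ⟨d, rfl⟩ : ∃ d, c = a + d := ⟨c - a, by omega⟩
  have e3 : q ∣ d + 1 := (Nat.dvd_add_iff_right (dvd_mul_right q t)).2 ⟨q * d, by nlinarith⟩
  have := Nat.le_of_dvd (by omega) e3
  omega

theorem order_of_nse {p q : ℕ} [hp : Fact p.Prime] (hq : p ∣ q) (q2 : 2 ≤ q)
    (hG : Nat.card G = q * (q ^ 2 - 1)) (h : ∀ n, n = 1 ∨ nse G n = q ^ 2 - 1 ∨ q ∣ nse G n) :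
    nse G p = q ^ 2 - 1 ∧ ∀ g : G, orderOf g = p ∨ g ^ (q ^ 2 - 1) = 1 := by
  have q4 : 4 ≤ q ^ 2 := by nlinarith
  have e1 : nse G p = q ^ 2 - 1 := by
    rcases h p with e | e | e
    · exact absurd e hp.out.one_lt.ne'
    · exact e
    · exact absurd (Nat.dvd_one.1 ((Nat.dvd_add_right (hq.trans e)).1 (prime_dvd_nse hp.out
        (hG ▸ hq.mul_right _)))) hp.out.one_lt.ne'
  obtain ⟨c, hc⟩ := FGS.dvd_card_pow_eq_one (G := G) (m := q ^ 2 - 1) (hG ▸ dvd_mul_left _ _)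
  obtain ⟨a, t, e2⟩ : ∃ a t, ∑ n ∈ (q ^ 2 - 1).divisors.erase 1, nse G n = a * (q ^ 2 - 1) + q * t := by
    refine Finset.sum_induction _ (fun x => ∃ a t, x = a * (q ^ 2 - 1) + q * t) ?_ ⟨0, 0, by simp⟩
      fun n hn => ?_
    · rintro _ _ ⟨a, t, rfl⟩ ⟨a', t', rfl⟩
      exact ⟨a + a', t + t', by ring⟩
    · rcases h n with e | e | ⟨t, e⟩
      exacts [absurd e (Finset.ne_of_mem_erase hn), ⟨1, 0, by simp [e]⟩, ⟨0, t, by simp [e]⟩]
  have e3 := sum_nse (G := G) (m := q ^ 2 - 1) (by omega)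
  rw [← Finset.sum_erase_add _ _ (Nat.one_mem_divisors.2 (by omega)), e2, nse_one, hc] at e3
  have e4 := card_split (G := G) (fun _ => True) fun g => g ^ (q ^ 2 - 1) = 1
  have hle : {g : G | orderOf g = p} ⊆ {g | ¬ g ^ (q ^ 2 - 1) = 1} := fun g hg e =>
    hp.out.one_lt.ne' (Nat.dvd_one.1 ((Nat.dvd_sub_iff_right (by omega) (hq.trans (dvd_pow_self q
      two_ne_zero))).1 ((show orderOf g = p from hg) ▸ orderOf_dvd_of_pow_eq_one e)))
  simp only [true_and, Nat.card_congr (Equiv.Set.univ G), Nat.card_subtype_true] at e4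
  have e5 : nse G p ≤ Nat.card {g : G // ¬ g ^ (q ^ 2 - 1) = 1} := Set.ncard_le_ncard hle
  have e6 := nse_arith q2 e3 (by omega)
  refine ⟨e1, fun g => or_iff_not_imp_right.2 fun hg => ?_⟩
  refine (Set.eq_of_subset_of_ncard_le hle ?_).ge hg
  change Nat.card {g : G // ¬ g ^ (q ^ 2 - 1) = 1} ≤ nse G p
  rw [hG, hc, ← e6] at e4
  rw [e1, ← e6]
  nlinarith

theorem zt_of_nse {p k : ℕ} [hp : Fact p.Prime] (p2 : p ≠ 2) (k0 : k ≠ 0)
    (hG : Nat.card G = p ^ k * ((p ^ k) ^ 2 - 1))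
    (h : ∀ n, n = 1 ∨ nse G n = (p ^ k) ^ 2 - 1 ∨ p ^ k ∣ nse G n) :
    ZT G (Sylow p G) ∧ Nat.card (Sylow p G) = p ^ k + 1 := by
  have q2 : 2 ≤ p ^ k := Nat.one_lt_pow k0 hp.out.one_lt
  have q4 : 4 ≤ (p ^ k) ^ 2 := by nlinarith
  obtain ⟨h1, h2⟩ := order_of_nse (dvd_pow_self p k0) q2 hG h
  have hn : ¬ p ∣ (p ^ k) ^ 2 - 1 := fun e => hp.out.one_lt.ne' (Nat.dvd_one.1
    ((Nat.dvd_sub_iff_right (by omega) ((dvd_pow_self p k0).trans (dvd_pow_self _ two_ne_zero))).1 e))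
  have h3 : ∀ g : G, p ∣ orderOf g → orderOf g = p := fun g hg =>
    (h2 g).resolve_right fun e => hn (hg.trans (orderOf_dvd_of_pow_eq_one e))
  have h4 : ∀ Q : Sylow p G, ∀ y ∈ (Q : Subgroup G), y ≠ 1 → IsPGroup p 𝐂[y] := fun Q y hy y1 =>
    isPGroup_cent_of_isolated (fun g hg r hr e =>
      (Nat.prime_dvd_prime_iff_eq hr hp.out).1 (h3 g hg ▸ e)) Q.isPGroup' hy y1
  have h5 : ∀ {Q : Subgroup G}, IsPGroup p Q → ∀ y ∈ Q, y ≠ 1 → orderOf y = p := fun hQ y hy y1 => by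
    obtain ⟨k, hk⟩ := IsPGroup.iff_orderOf.1 hQ ⟨y, hy⟩
    rw [orderOf_mk] at hk
    exact h3 y (hk ▸ dvd_pow_self p (by rintro rfl; exact y1 (orderOf_eq_one_iff.1 hk)))
  have hc : ∀ Q : Sylow p G, Nat.card Q = p ^ k := fun Q => by
    rw [Q.card_eq_multiplicity, hG, Nat.factorization_mul (by omega) (by omega),
      hp.out.factorization_pow, Finsupp.add_apply, Finsupp.single_eq_same,
      Nat.factorization_eq_zero_of_not_dvd hn, add_zero]
  refine (fun hs : SCC p G => ?_) (SCC.of_abelian h4 fun P => ?_)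
  · obtain ⟨P⟩ : Nonempty (Sylow p G) := inferInstance
    have hn := hs.card_sylow P (hc P) hG.dvd (by
      rw [hG]; exact Nat.mul_lt_mul_of_pos_left (Nat.sub_lt_sub_right (by omega) (by nlinarith))
        (by omega)) (by omega)
    exact ⟨hs.zt P (by rw [hn, hc]) (by rw [hc]; omega), hn⟩
  have : Nontrivial (P : Subgroup G) := Finite.one_lt_card_iff_nontrivial.1 (by rw [hc]; omega)
  obtain ⟨⟨⟨z, hz⟩, hz'⟩, z1⟩ := (nontrivial_iff_exists_ne 1).1 P.isPGroup'.center_nontrivial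
  have z1' : z ≠ 1 := fun e => z1 (Subtype.ext (Subtype.ext e))
  have e1 : 𝐂[z] = P := P.is_maximal' (h4 P z hz z1') fun g hg =>
    mem_cent1.2 (congrArg Subtype.val (mem_center_iff.1 hz' ⟨g, hg⟩))
  have e2 := h5 P.isPGroup' z hz z1'
  obtain ⟨g, hg⟩ : ∃ g : G, g * z * g⁻¹ = z⁻¹ := by
    let A : MulAction G G := MulAction.compHom G MulAut.conj
    have e3 : @orbit G G A.toSMul z ⊆ {g | orderOf g = p} := by
      rintro _ ⟨g, rfl⟩
      exact (Inv.orderOf_conj' g z).trans e2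
    have e4 := (stabilizer G z).index_mul_card
    rw [index_stabilizer, show stabilizer G z = P from Subgroup.ext fun g => by
      rw [← e1, mem_cent1, ← mul_inv_eq_iff_eq_mul]; rfl, hc, hG, mul_comm] at e4
    exact (Set.eq_of_subset_of_ncard_le e3 (h1.trans (Nat.eq_of_mul_eq_mul_left (by omega)
      e4).symm).le).ge ((orderOf_inv z).trans e2)
  have k2 : ∀ x : G, x * x = 1 → orderOf x ≠ p := fun x hx e =>
    p2 ((Nat.prime_dvd_prime_iff_eq hp.out Nat.prime_two).1 (e ▸ orderOf_dvd_of_pow_eq_one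
      ((sq x).trans hx)))
  have e3 : g ∉ 𝐂[z] := fun e => by
    rw [mem_cent1.1 e, mul_inv_cancel_right, eq_inv_iff_mul_eq_one] at hg
    exact k2 z hg e2
  have e4 : g * g ∈ 𝐂[z] := mem_cent1.2 (by
    rw [← mul_inv_eq_iff_eq_mul, show g * g * z * (g * g)⁻¹ = g * (g * z * g⁻¹) * g⁻¹ by group, hg,
      ← conj_inv, hg, inv_inv])
  have e5 : g * g = 1 := by_contra fun e => e3 (by
    have e6 := h3 g (h5 P.isPGroup' _ (e1 ▸ e4) e ▸ (sq g) ▸ orderOf_pow_dvd 2)
    obtain ⟨m, hm⟩ := hp.out.odd_of_ne_two p2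
    have e7 : (g * g) ^ (m + 1) = g := by
      rw [← sq, ← pow_mul, show 2 * (m + 1) = orderOf g + 1 by omega, pow_succ, pow_orderOf_eq_one,
        one_mul]
    exact e7 ▸ pow_mem e4 _)
  refine isMulCommutative_of_inverted (inv_of_fpf_involution e5 ?_
    fun y hy e => by_contra fun y1 => k2 g e5 (h5 (h4 P y hy y1) g (mem_cent1.2 e)
      (by rintro rfl; exact e3 (one_mem _))))
  refine mem_normalizer_fintype fun y hy => ?_
  rw [SetLike.mem_coe, ← e1] at hy ⊢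
  refine mem_cent1.2 ?_
  rw [← inv_inv z, ← hg, conj_inv, conj_mul, conj_mul, (Commute.inv_right (mem_cent1.1 hy)).eq]

end Cfsg.Lib.Spec2
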