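import Cfsg.Agent.Lib.Spec2.O6A
import Cfsg.Agent.S2488

/-!
# Extensions of the alternating groups of degree five and six without elements of order eight
-/

set_option autoImplicit false

namespace Cfsg.Lib.Spec2

open Subgroup Cfsg.Lib Cfsg.Lib.BG Cfsg.Lib.Transfer Equiv Equiv.Perm

set_option maxRecDepth 100000 in
theorem six_dec1 : ∀ s : Perm (Fin 6), s * s = 1 → s * (swap 0 1 * swap 4 5) = swap 0 1 * swap 4 5 * s →
    s ≠ 1 → s ≠ swap 0 1 * swap 4 5 → sign s = 1 →
      (s = swap 0 4 * swap 1 5 ∨ s = swap 0 5 * swap 1 4) ∨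
        s = swap 0 1 * swap 2 3 ∨ s = swap 2 3 * swap 4 5 := by decide +kernel

set_option maxRecDepth 100000 in
theorem six_dec2 : ∀ y : Perm (Fin 6), y * y * y = 1 →
    (y * (swap 0 1 * swap 4 5) * y⁻¹ = swap 0 4 * swap 1 5 ∨
      y * (swap 0 1 * swap 4 5) * y⁻¹ = swap 0 5 * swap 1 4) → y.support.card = 3 := by decide +kernel

set_option maxRecDepth 100000 in
theorem six_dec3 : ∀ s : Perm (Fin 6), s * (swap 0 1 * swap 4 5) * s⁻¹ = swap 0 1 * swap 4 5 →
    s ^ 4 = 1 ∧ ∀ u : Perm (Fin 6), (u = swap 0 1 * swap 2 3 ∨ u = swap 2 3 * swap 4 5) → s ^ 2 = 1 →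
      (s * (swap 0 4 * swap 1 5) * s⁻¹ = swap 0 4 * swap 1 5 ↔ s * u * s⁻¹ = u) →
        (u * s * (swap 0 4 * swap 1 5)) ^ 4 = 1 ∧ (u * s * (swap 0 4 * swap 1 5)) ^ 2 ≠ 1 := by
  simp only [forall_eq_or_imp, forall_eq]
  decide +kernel

theorem six_aut {H : Subgroup (MulAut (alternatingGroup (Fin 6)))} (h1 : ∀ a, MulAut.conj a ∈ H)
    (h2 : ∀ φ ∈ H, φ ^ 8 = 1 → φ ^ 4 = 1) :
    H ≤ (MulAut.conjNormal : Perm (Fin 6) →* MulAut (alternatingGroup (Fin 6))).range := by
  let t : alternatingGroup (Fin 6) := ⟨swap 0 1 * swap 4 5, mem_alternatingGroup.2 (by decide)⟩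
  let u : alternatingGroup (Fin 6) := ⟨swap 0 4 * swap 1 5, mem_alternatingGroup.2 (by decide)⟩
  let x : alternatingGroup (Fin 6) := ⟨swap 1 4 * swap 4 5, mem_alternatingGroup.2 (by decide)⟩
  have c := Alt.conjNormal_injective (α := Fin 6) (by simp)
  have cc : ∀ a : alternatingGroup (Fin 6), MulAut.conj a = MulAut.conjNormal a.1 := fun a => rfl
  have key : ∀ φ ∈ H, φ t = t → φ ∈ (MulAut.conjNormal : Perm (Fin 6) →* _).range := fun φ hφ e => by
    rcases six_dec1 (φ u) (congrArg Subtype.val ((map_mul φ u u).symm.trans (by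
        rw [show u * u = 1 by decide, map_one])))
      (congrArg Subtype.val (show φ u * t = t * φ u by
        rw [← e, ← map_mul, ← map_mul, show u * t = t * u by decide]))
      (fun e' => absurd (φ.injective ((Subtype.ext e').trans (map_one φ).symm)) (by decide))
      (fun e' => absurd (φ.injective ((Subtype.ext e').trans e.symm)) (by decide)) (φ u).2 with e1 | e1
    · have e2 := card_support_eq_three_iff.1 (six_dec2 (φ x) (congrArg Subtype.val (show φ x * φ x * φ x = 1 by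
        rw [← map_mul, ← map_mul, show x * x * x = 1 by decide, map_one])) (by
          rwa [show (φ x).1 * (swap 0 1 * swap 4 5) * (φ x).1⁻¹ = (φ u).1 from congrArg Subtype.val
            (show φ x * t * (φ x)⁻¹ = φ u by
              rw [← e, ← map_inv, ← map_mul, ← map_mul, show x * t * x⁻¹ = u by decide])]))
      exact Alt.exists_conj_of_three (by simp) φ fun y hy => (isConj_iff_cycleType_eq.1 (Perm.isConj_coe
        (φ.toMonoidHom.map_isConj (alternatingGroup.isThreeCycle_isConj (by simp) hy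
          (card_support_eq_three_iff.1 (by decide) : x.1.IsThreeCycle))))).trans e2
    obtain ⟨s, hs⟩ := Perm.sq_mem_range_conjNormal (by simp) φ
    have e2 : ∀ a, s * a.1 * s⁻¹ = (φ (φ a)).1 := fun a => congrArg Subtype.val (DFunLike.congr_fun hs a)
    have k : ∀ ψ ∈ H, ∀ r : Perm (Fin 6), MulAut.conjNormal r = ψ * ψ → r ^ 4 = 1 → r ^ 2 = 1 :=
      fun ψ hψ r e1 e2 => c (by
        rw [map_pow, e1, ← sq, ← pow_mul, map_one]
        exact h2 ψ hψ (by rw [show 8 = 2 * 4 from rfl, pow_mul, sq, ← e1, ← map_pow, e2, map_one]))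
    obtain ⟨e3, e4⟩ := six_dec3 s ((e2 t).trans (by rw [e, e]))
    obtain ⟨e5, e6⟩ := e4 _ e1 (k φ hφ s hs e3) (by
      rw [e2 (φ u), ← Subtype.ext_iff, φ.apply_eq_iff_eq, Subtype.ext_iff, ← e2 u])
    refine absurd (k _ (mul_mem hφ (h1 u)) _ ?_ e5) e6
    rw [map_mul, map_mul, hs, ← cc (φ u), ← cc u]
    ext1 a
    simp
  intro φ hφ
  obtain ⟨r, hr⟩ := Agent.S2488.exists_conj (φ t) (by
    rw [φ.orderOf_eq]; exact orderOf_eq_prime (by decide) (by decide))
  obtain ⟨a, ha, e⟩ := Perm.exists_alt_conj_of_not_le (isConj_iff.2 ⟨r, hr⟩).symm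
    fun e => absurd (mem_alternatingGroup.1 (e (x := swap 0 1) (mem_cent1.2 (by decide)))) (by decide)
  have := key ((MulAut.conj ⟨a, ha⟩)⁻¹ * φ) (mul_mem (inv_mem (h1 _)) hφ) (Subtype.ext (by
    change a⁻¹ * (φ t).1 * a = swap 0 1 * swap 4 5
    rw [← e]; group))
  exact (mul_mem_cancel_left (inv_mem (MonoidHom.mem_range.2 ⟨a, rfl⟩))).1 this

variable {G : Type*} [Group G] [Finite G]

theorem Om6.alt_over (h : Om6 G) {n : ℕ} (hn : n = 5 ∨ n = 6) {M : Subgroup G} [M.Normal]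
    (e : M ≃* alternatingGroup (Fin n)) (hC : 𝐂(M) = ⊥) : M = ⊤ ∨ Nonempty (G ≃* Perm (Fin n)) := by
  have h4 : 4 ≤ Nat.card (Fin n) := by simp; omega
  let ψ : G →* MulAut (alternatingGroup (Fin n)) := (MulAut.congr e).toMonoidHom.comp MulAut.conjNormal
  have c := Alt.conjNormal_injective h4
  have hψ : Function.Injective ψ := (injective_iff_map_eq_one ψ).2 fun g a => by
    have b := (map_eq_one_iff _ (MulAut.congr e).injective).1 a
    exact mem_bot.1 (hC.le fun x m => (mul_inv_eq_iff_eq_mul.1 ((MulAut.conjNormal_apply g ⟨x, m⟩).symm.trans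
      (congrArg Subtype.val (DFunLike.congr_fun b ⟨x, m⟩)))).symm)
  have k : ∀ a, ψ (e.symm a) = MulAut.conj a := fun a => MulEquiv.ext fun x => by
    simp [ψ, show MulAut.conjNormal (e.symm a : G) (e.symm x) = e.symm a * e.symm x * (e.symm a)⁻¹ from rfl]
  have r : ∀ g, ψ g ∈ (MulAut.conjNormal : Perm (Fin n) →* MulAut (alternatingGroup (Fin n))).range := by
    rcases hn with rfl | rfl
    · exact fun g => (Alt.conjNormal_bijective h4 (by simp)).2 _
    · refine fun g => six_aut (H := ψ.range) (fun a => ⟨_, k a⟩) ?_ ⟨g, rfl⟩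
      rintro _ ⟨g, rfl⟩ e
      rw [← map_pow, h.pow_four (k := 3) (hψ (by rw [map_pow, map_one]; exact e)), map_one]
  let f : G →* Perm (Fin n) := (MonoidHom.ofInjective c).symm.toMonoidHom.comp (ψ.codRestrict _ r)
  have hf : ∀ g, MulAut.conjNormal (f g) = ψ g := fun g =>
    congrArg Subtype.val ((MonoidHom.ofInjective c).apply_symm_apply (ψ.codRestrict _ r g))
  have hi : Function.Injective f := fun a b e => hψ (by rw [← hf, ← hf, e])
  have k' : ∀ a, f (e.symm a) = a := fun a => c ((hf _).trans (k a))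
  have : Nontrivial (Fin n) := Finite.one_lt_card_iff_nontrivial.1 (by omega)
  by_cases hM : ∀ g, f g ∈ alternatingGroup (Fin n)
  · exact .inl (eq_top_iff.2 fun g _ => hi (k' ⟨_, hM g⟩) ▸ (e.symm _).2)
  obtain ⟨g, hg⟩ := not_forall.1 hM
  refine .inr ⟨.ofBijective f ⟨hi, fun s => ?_⟩⟩
  by_cases hs : s ∈ alternatingGroup (Fin n)
  · exact ⟨_, k' ⟨s, hs⟩⟩
  · exact ⟨g⁻¹ * e.symm ⟨_, Perm.mul_mem_alt hg hs⟩, by simp [k']⟩

end Cfsg.Lib.Spec2
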