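import Cfsg.Agent.Lib.Spec2.O6B
import Cfsg.Agent.Lib.Core.MinNormal
import Cfsg.Agent.Lib.PSL2.SmallIso

/-!
# Nonsolvable groups whose elements have order at most six: reduction to simple groups
-/

set_option autoImplicit false

namespace Cfsg.Lib.Spec2

open Subgroup Cfsg.Lib Cfsg.Lib.BG Cfsg.Lib.Transfer Equiv Equiv.Perm

universe u

variable {L : Type*} [Group L]

/-- `b` of order `m` acts fixed-point-freely on the elementary abelian `r`-group generated by `a, a'`. -/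
def Cf (r m : ℕ) (a a' b : L) : Prop :=
  a * a' = a' * a ∧ a ^ r = 1 ∧ a' ^ r = 1 ∧ b ^ m = 1 ∧ a ≠ 1 ∧ ∀ i < r, ∀ j < r,
    (∃ i' < r, ∃ j' < r, b * (a ^ i * a' ^ j) * b⁻¹ = a ^ i' * a' ^ j') ∧
      ∀ k < m, 0 < k → a ^ i * a' ^ j * b ^ k = b ^ k * (a ^ i * a' ^ j) → a ^ i * a' ^ j = 1

instance decCf [DecidableEq L] (r m : ℕ) (a a' b : L) : Decidable (Cf r m a a' b) := by unfold Cf; infer_instance

/-- The nonsolvable groups whose elements have order at most six. -/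
def Ty6 (G : Type*) [Group G] : Prop :=
  (Nonempty (G ≃* alternatingGroup (Fin 6)) ∨ Nonempty (G ≃* Perm (Fin 5)) ∨ Nonempty (G ≃* Perm (Fin 6))) ∨
    ∃ ρ : G →* alternatingGroup (Fin 5), Function.Surjective ρ ∧ IsElementaryAbelian 2 ρ.ker

theorem cf5 : (Cf 2 3 (⟨swap 0 1 * swap 2 3, mem_alternatingGroup.2 (by decide)⟩ : alternatingGroup (Fin 5))
    ⟨swap 0 2 * swap 1 3, mem_alternatingGroup.2 (by decide)⟩
    ⟨swap 0 1 * swap 1 2, mem_alternatingGroup.2 (by decide)⟩) ∧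
    ∃ f a : alternatingGroup (Fin 5), f ≠ 1 ∧ f ^ 5 = 1 ∧ a * a = 1 ∧ a * f * a⁻¹ = f⁻¹ :=
  ⟨by decide +kernel, ⟨swap 0 1 * swap 1 2 * swap 2 3 * swap 3 4, mem_alternatingGroup.2 (by decide)⟩,
    ⟨swap 1 4 * swap 2 3, mem_alternatingGroup.2 (by decide)⟩, by decide +kernel⟩

theorem cf6 : (Cf 2 3 (⟨swap 0 1 * swap 2 3, mem_alternatingGroup.2 (by decide)⟩ : alternatingGroup (Fin 6))
    ⟨swap 0 2 * swap 1 3, mem_alternatingGroup.2 (by decide)⟩
    ⟨swap 0 1 * swap 1 2, mem_alternatingGroup.2 (by decide)⟩) ∧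
    (Cf 3 4 (⟨swap 0 1 * swap 1 2, mem_alternatingGroup.2 (by decide)⟩ : alternatingGroup (Fin 6))
    ⟨swap 3 4 * swap 4 5, mem_alternatingGroup.2 (by decide)⟩
    ⟨swap 0 3 * (swap 1 4 * swap 4 2 * swap 2 5), mem_alternatingGroup.2 (by decide)⟩) := by decide +kernel

theorem cfs5 : ∃ a a' b c d : Perm (Fin 5), Cf 2 3 a a' b ∧ Cf 5 4 c 1 d :=
  ⟨swap 0 1 * swap 2 3, swap 0 2 * swap 1 3, swap 0 1 * swap 1 2, swap 0 1 * swap 1 2 * swap 2 3 * swap 3 4,
    swap 1 2 * swap 2 4 * swap 4 3, by decide +kernel⟩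

theorem cfs6 : ∃ a a' b c d : Perm (Fin 6), Cf 2 3 a a' b ∧ Cf 5 4 c 1 d :=
  ⟨swap 0 1 * swap 2 3, swap 0 2 * swap 1 3, swap 0 1 * swap 1 2, swap 0 1 * swap 1 2 * swap 2 3 * swap 3 4,
    swap 1 2 * swap 2 4 * swap 4 3, by decide +kernel⟩

theorem card_a5 : Nat.card (alternatingGroup (Fin 5)) = 60 := by
  have := PSL2.card_alternating_fin 5 (by norm_num); simp only [Nat.factorial] at this; omega

theorem card_a6 : Nat.card (alternatingGroup (Fin 6)) = 360 := by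
  have := PSL2.card_alternating_fin 6 (by norm_num); simp only [Nat.factorial] at this; omega

variable {G : Type u} [Group G] [Finite G] {π : G →* L} {p : ℕ}

namespace Om6

variable (h : Om6 G)
include h

theorem cent_bot {N : Subgroup G} (h10 : 10 ∣ Nat.card N) : 𝐂(N) = ⊥ := eq_bot_iff.2 fun y hy => by_contra fun y1 => by
  have := Fact.mk Nat.prime_five
  obtain ⟨f, hf⟩ := exists_prime_orderOf_dvd_card' 5 ((by norm_num : 5 ∣ 10).trans h10)
  obtain ⟨t, ht⟩ := exists_prime_orderOf_dvd_card' 2 ((by norm_num : 2 ∣ 10).trans h10)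
  rw [← orderOf_coe] at hf ht
  have h1 := h.order_five (by_contra fun e => y1 (h.five hf e (mem_cent.1 hy _ f.2).symm))
  rw [h.five h1 (by rw [ht]; norm_num) (mem_cent.1 hy _ t.2), orderOf_one] at ht
  omega

variable [hp : Fact p.Prime] (hπ : Function.Surjective π) (hN : IsPGroup p π.ker)
include hN

theorem cent5 (N1 : π.ker ≠ ⊥) {y : L} (hy : y ∈ 𝐂(π.ker).map π) (y1 : y ≠ 1) : y ^ 5 = 1 ↔ p = 5 := by
  have := Fact.mk Nat.prime_five
  obtain ⟨g, hg, rfl⟩ := hy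
  obtain ⟨x, hx⟩ := exists_prime_orderOf_dvd_card' p (pgroup_dvd_card hN N1)
  rw [← orderOf_coe] at hx
  refine ⟨fun e => ((Nat.prime_dvd_prime_iff_eq this.out hp.out).1 (by_contra fun e' => ?_)).symm, fun e => ?_⟩
  · rw [h.five (h.order_five (orderOf_eq_prime e y1 ▸ orderOf_map_dvd π g)) (hx ▸ e') (mem_cent.1 hg _ x.2),
      orderOf_one] at hx
    exact hp.out.ne_one hx.symm
  · rw [← map_pow, ← h.order_five (by_contra fun e' => y1 (by
      rw [h.five (hx.trans e) e' (mem_cent.1 hg _ x.2).symm, map_one])), pow_orderOf_eq_one, map_one]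

include hπ

theorem cfg {r m : ℕ} [hr : Fact r.Prime] (h1 : p ≠ r) (m0 : 0 < m) {a a' b : L} (c : Cf r m a a' b)
    (hn : a ∉ 𝐂(π.ker).map π) : m * p ≤ 6 := by
  have := Finite.of_surjective π hπ
  obtain ⟨c1, c2, c3, c4, c5, c6⟩ := c
  have n : zpowers a' ≤ 𝐍(zpowers a) :=
    norm_of_cent (zpowers_le.2 (by rw [cent_zpowers]; exact mem_cent1.2 c1.symm))
  have z : ∀ x : L, x ^ r = 1 → ∀ y ∈ zpowers x, ∃ i < r, x ^ i = y := fun x hx y hy => by
    obtain ⟨i, rfl⟩ := mem_powers_iff_mem_zpowers.2 hy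
    exact ⟨i % r, Nat.mod_lt _ hr.out.pos, (pow_eq_pow_mod i hx).symm⟩
  have k : ∀ x ∈ zpowers a ⊔ zpowers a', ∃ i < r, ∃ j < r, a ^ i * a' ^ j = x := fun x hx => by
    obtain ⟨y, hy, w, hw, rfl⟩ := (mem_sup_left_norm n).1 hx
    obtain ⟨i, hi, rfl⟩ := z a c2 y hy
    obtain ⟨j, hj, rfl⟩ := z a' c3 w hw
    exact ⟨i, hi, j, hj, rfl⟩
  have pg : ∀ x : L, x ^ r = 1 → IsPGroup r (zpowers x) := fun x hx y => ⟨1, Subtype.ext (by
    obtain ⟨i, -, e⟩ := z x hx y y.2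
    rw [pow_one, Subgroup.coe_pow, ← e, ← pow_mul, mul_comm, pow_mul, hx, one_pow, Subgroup.coe_one])⟩
  have pK := pgroup_sup (pg a c2) (pg a' c3) n
  have ob : orderOf b = m := (orderOf_eq_iff m0).2 ⟨c4, fun i hi i0 e => c5 (by
    simpa [e] using (c6 1 hr.out.one_lt 0 hr.out.pos).2 i hi i0)⟩
  obtain ⟨g, hg⟩ := exists_big hπ hN (K := zpowers a ⊔ zpowers a') (b := b) (mem_normalizer_fintype fun x hx => by
      obtain ⟨i, hi, j, hj, rfl⟩ := k x hx
      obtain ⟨i', -, j', -, e⟩ := (c6 i hi j hj).1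
      exact e ▸ mul_mem_sup (npow_mem_zpowers a i') (npow_mem_zpowers a' j'))
    (fun l l0 hl => eq_bot_iff.2 fun x hx => by
      obtain ⟨i, hi, j, hj, rfl⟩ := k x hx.1
      exact (c6 i hi j hj).2 l (ob ▸ hl) l0 (mem_cent1.1 hx.2))
    (fun e => h1 (pgroup_eq_of_dvd pK hp.out e)) (pgroup_sol pK) fun e => hn (e (mem_sup_left (mem_zpowers a)))
  exact ob ▸ (Nat.le_of_dvd (orderOf_pos g) hg).trans (h g)

variable (N1 : π.ker ≠ ⊥)
include N1

theorem cent_simple [IsSimpleGroup L] (h10 : 10 ∣ Nat.card L) : 𝐂(π.ker).map π = ⊥ := by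
  have := Finite.of_surjective π hπ
  have := Fact.mk Nat.prime_five
  refine (Normal.map inferInstance π hπ).eq_bot_or_eq_top.resolve_right fun e => ?_
  obtain ⟨f, hf⟩ := exists_prime_orderOf_dvd_card' 5 ((by norm_num : 5 ∣ 10).trans h10)
  obtain ⟨t, ht⟩ := exists_prime_orderOf_dvd_card' 2 ((by norm_num : 2 ∣ 10).trans h10)
  have k : ∀ y : L, 1 < orderOf y → (orderOf y ∣ 5 ↔ p = 5) := fun y hy => orderOf_dvd_iff_pow_eq_one.trans
    (h.cent5 hN N1 (e.ge (mem_top y)) fun e => hy.ne' (orderOf_eq_one_iff.2 e))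
  exact absurd ((k t (by omega)).2 ((k f (by omega)).1 hf.dvd)) (by rw [ht]; norm_num)

theorem ext_simple [IsSimpleGroup L] (h10 : 10 ∣ Nat.card L) {a a' b : L} (c : Cf 2 3 a a' b) : p = 2 :=
  by_contra fun e => by
    have := h.cfg hπ hN e three_pos c (h.cent_simple hπ hN N1 h10 ▸ c.2.2.2.2.1)
    have := hp.out.two_le
    omega

theorem ext_perm (c : ∃ a a' b c d : L, Cf 2 3 a a' b ∧ Cf 5 4 c 1 d) : False := by
  have := Fact.mk Nat.prime_five
  obtain ⟨a, a', b, c, d, c1, c2⟩ := c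
  have := hp.out.two_le
  by_cases e : p = 5
  · have := h.cfg hπ hN (by omega) three_pos c1 fun e' => c1.2.2.2.2.1 (by
      rw [← (h.cent5 hN N1 e' c1.2.2.2.2.1).2 e, pow_eq_pow_mod 5 c1.2.1, pow_one])
    omega
  · have := h.cfg hπ hN e four_pos c2 fun e' => e ((h.cent5 hN N1 e' c2.2.2.2.2.1).1 c2.2.1)
    omega

end Om6

theorem Om6.ext_none (h : Om6 G) [hp : Fact p.Prime] {N : Subgroup G} [N.Normal] (hN : IsPGroup p N) (N1 : N ≠ ⊥) :
    ¬ (Nonempty (G ⧸ N ≃* alternatingGroup (Fin 6)) ∨ Nonempty (G ⧸ N ≃* Perm (Fin 5)) ∨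
      Nonempty (G ⧸ N ≃* Perm (Fin 6))) := by
  have k : ∀ {X : Type} [Group X] (e : G ⧸ N ≃* X), ∃ π : G →* X, Function.Surjective π ∧ IsPGroup p π.ker ∧
      π.ker ≠ ⊥ := fun e => ⟨e.toMonoidHom.comp (QuotientGroup.mk' N),
    e.surjective.comp (QuotientGroup.mk'_surjective N), by
      rw [← MonoidHom.comap_ker, (MonoidHom.ker_eq_bot_iff _).2 e.injective, MonoidHom.comap_bot,
        QuotientGroup.ker_mk']
      exact ⟨hN, N1⟩⟩
  rintro (⟨⟨e⟩⟩ | ⟨⟨e⟩⟩ | ⟨⟨e⟩⟩) <;> obtain ⟨π, a, b, c⟩ := k e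
  · have := Fact.mk Nat.prime_three
    have := alternatingGroup.isSimpleGroup (α := Fin 6) (by simp)
    have h1 : 10 ∣ Nat.card (alternatingGroup (Fin 6)) := by rw [card_a6]; norm_num
    obtain rfl := h.ext_simple a b c h1 cf6.1
    exact absurd (h.cfg a b (by norm_num) four_pos cf6.2 (h.cent_simple a b c h1 ▸ cf6.2.2.2.2.2.1)) (by norm_num)
  exacts [h.ext_perm a b c cfs5, h.ext_perm a b c cfs6]

theorem Om6.step (h : Om6 G) (hs : ¬ Group.IsSolvable G) (ih : ∀ (H : Type u) [Group H] [Finite H],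
    Nat.card H < Nat.card G → Om6 H → ¬ Group.IsSolvable H → Ty6 H) : IsSimpleGroup G ∨ Ty6 G := by
  have := Fact.mk Nat.prime_five
  have : Nontrivial G := not_subsingleton_iff_nontrivial.1 fun _ => hs inferInstance
  have on : ∀ M : Subgroup G, M.Normal → 𝐎({2}, M).Normal := fun M hM =>
    Nml.top_iff.1 ((Nml.top_iff.2 hM).pcore _)
  obtain ⟨N, hN, h2⟩ : ∃ N : Subgroup G, Core.IsMinNormal N ∧ (𝐎({2}, (⊤ : Subgroup G)) = ⊥ ∨ IsPGroup 2 N) := by
    by_cases e : 𝐎({2}, (⊤ : Subgroup G)) = ⊥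
    · exact Core.exists_isMinNormal.imp fun _ a => ⟨a, .inl e⟩
    · exact (Core.exists_isMinNormal_le (on ⊤ inferInstance) e).imp fun _ a =>
        ⟨a.1, .inr (pgroup_of_le (pcore_pgroup 2 _) a.2)⟩
  have := hN.normal
  by_cases sN : Group.IsSolvable N
  · obtain ⟨p, hp, eN⟩ := hN.isElementaryAbelian sN
    have := Fact.mk hp
    have pN := Core.isPGroup_of_isElementaryAbelian eN
    have s := QuotientGroup.mk'_surjective N
    have kN := QuotientGroup.ker_mk' N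
    obtain ⟨ρ, hρ, eρ⟩ := (ih (G ⧸ N) (by
      rw [card_eq_card_quotient_mul_card_subgroup N]
      exact lt_mul_of_one_lt_right Nat.card_pos ((one_lt_card_iff_ne_bot N).2 hN.ne_bot)) (h.surj s)
      (mt (Core.isSolvable_of_normal_quotient N sN) hs)).resolve_left (h.ext_none pN hN.ne_bot)
    have pρ := Core.isPGroup_of_isElementaryAbelian eρ
    have mR : (ρ.comp (QuotientGroup.mk' N)).ker.map (QuotientGroup.mk' N) = ρ.ker :=
      map_comap_eq_self_of_surjective s ρ.ker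
    have lR : N ≤ (ρ.comp (QuotientGroup.mk' N)).ker := kN.ge.trans (ker_le_comap _ ρ.ker)
    obtain ⟨f, a, f1, f5, a2, e⟩ := cf5.2
    obtain rfl : p = 2 := by
      refine by_contra fun p2 => ?_
      replace h2 := h2.resolve_right fun e => p2 (pgroup_eq_of_dvd e hp (pgroup_dvd_card pN hN.ne_bot))
      by_cases hb : ρ.ker = ⊥
      · have e : (ρ.comp (QuotientGroup.mk' N)).ker = N := by
          rw [← MonoidHom.comap_ker, hb, MonoidHom.comap_bot, kN]
        exact p2 (h.ext_simple (hρ.comp s) (e.symm ▸ pN) (e.symm ▸ hN.ne_bot) (by rw [card_a5]; norm_num) cf5.1)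
      obtain ⟨b, rfl⟩ := hρ f
      have h' := h.surj s
      have ob := h'.order_five (orderOf_eq_prime f5 f1 ▸ orderOf_map_dvd ρ b)
      obtain ⟨g, hg⟩ := exists_big s (kN.symm ▸ pN) (K := ρ.ker) (b := b) (le_normalizer_of_normal (mem_top b))
        (fun i i0 hi => h'.five' (by norm_num) pρ (by
          rw [Nat.Coprime.orderOf_pow (ob ▸ (Nat.coprime_of_lt_prime i0.ne' (ob ▸ hi) Nat.prime_five)), ob]))
        (fun e => p2 (pgroup_eq_of_dvd pρ hp e)) (pgroup_sol pρ) fun e => hb (by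
          obtain ⟨Q, hQ⟩ := Syl.exists 2 (ρ.comp (QuotientGroup.mk' N)).ker
          obtain ⟨k, hk⟩ := pρ.exists_card_eq
          have e1 := hQ.sup_eq lR (by
            have := relIndex_ker (ρ.comp (QuotientGroup.mk' N)).ker (QuotientGroup.mk' N)
            rw [kN, mR, hk] at this
            exact this ▸ PiNat.prime_pow Nat.prime_two (Set.mem_singleton 2) k)
          rw [← mR, Subgroup.map_le_map_iff, kN, sup_eq_left.2 (abelian_cent eN.1)] at e
          have e2 := (hQ.pcore_eq' (e1.ge.trans (sup_le (norm_of_cent (cent_symm (hQ.le.trans e))) (le_norm Q)))).ge.trans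
            ((Nml.top_iff.2 inferInstance).pcore_le _)
          rw [← mR, ← e1, eq_bot_mono h2 e2, sup_bot_eq, Subgroup.map_eq_bot_iff, kN])
      have := hp.two_le
      have := (Nat.le_of_dvd (orderOf_pos g) hg).trans (h g)
      rw [ob] at this
      omega
    have pR : IsPGroup 2 (ρ.comp (QuotientGroup.mk' N)).ker := pρ.comap_of_ker_isPGroup _ (kN.symm ▸ pN)
    obtain ⟨f, a, f5, a2, e⟩ := h.lift_ten (hρ.comp s) pR (orderOf_eq_prime f5 f1) a2 e
    exact .inr (.inr ⟨_, hρ.comp s, h.elem_of_ten (π := QuotientGroup.mk' N) pR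
      (kN.symm ▸ hN.le_centralizer_of_isNilpotent _ (pgroup_nil pR)) (kN.symm ▸ lR)
      (fun x hx => (sq x).symm.trans (eN.2 x (kN.le hx))) (mR.symm ▸ eρ) f5 a2 e⟩)
  by_cases hT : N = ⊤
  · exact .inl ⟨fun K hK => (hN.min K hK (hT ▸ le_top)).imp_right fun e => e.trans hT⟩
  have k : ∀ {n}, n = 5 ∨ n = 6 → N ≃* alternatingGroup (Fin n) → Nonempty (G ≃* Perm (Fin n)) := fun hn e =>
    (h.alt_over hn e (h.cent_bot (by
      rw [Nat.card_congr e.toEquiv]
      rcases hn with rfl | rfl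
      exacts [card_a5 ▸ by norm_num, card_a6 ▸ by norm_num]))).resolve_left hT
  have k' : ∀ {n}, N ≃* Perm (Fin (n + 2)) → False := fun e => by
    obtain ⟨x, hx, e'⟩ := ((hN.commutator_eq_self_or.resolve_left (mt abelian_sol sN)).ge.trans
      (comm_le_iff (H := (sign.comp e.toMonoidHom).ker.map N.subtype).2 fun a ha b hb =>
        ⟨⟨a, ha⟩ * ⟨b, hb⟩ * ⟨a, ha⟩⁻¹ * ⟨b, hb⟩⁻¹, MonoidHom.mem_ker.2 (by
          rw [map_mul, map_mul, map_mul, map_inv, map_inv, mul_inv_cancel_comm, mul_inv_cancel]), rfl⟩)) (e.symm (swap 0 1)).2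
    rw [Subtype.ext e'] at hx
    simp [MonoidHom.mem_ker] at hx
  rcases ih N (card_lt_of_lt (lt_top_iff_ne_top.2 hT) |>.trans_eq card_top) (h.sub N) sN with
    (⟨⟨e⟩⟩ | ⟨⟨e⟩⟩ | ⟨⟨e⟩⟩) | ⟨ρ, hρ, eρ⟩
  · exact .inr (.inl (.inr (.inr (k (.inr rfl) e))))
  · exact (k' e).elim
  · exact (k' e).elim
  refine .inr (.inl (.inr (.inl (k (.inl rfl) (.ofBijective ρ ⟨(MonoidHom.ker_eq_bot_iff ρ).1 ?_, hρ⟩)))))
  refine (map_eq_bot_iff_of_injective _ N.subtype_injective).1 (eq_bot_mono ((hN.min _ (on N this)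
    (pcore_le _ _)).resolve_right fun e => sN (e ▸ pgroup_sol (pcore_pgroup 2 N))) ?_)
  exact pcore_max_p ((Core.isPGroup_of_isElementaryAbelian eρ).map _) (Nml.of_normal N _)

end Cfsg.Lib.Spec2
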