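import Cfsg.Agent.Lib.Spec2.O6C
import Cfsg.Agent.Lib.Transfer.Criteria
import Cfsg.Prelude.Def_CaseTheorems

/-!
# Simple groups whose elements have order at most six: a nonsolvable local subgroup
-/

set_option autoImplicit false

namespace Cfsg.Lib.Spec2

open Subgroup Cfsg.Lib Cfsg.Lib.BG Cfsg.Lib.Transfer Equiv Equiv.Perm

variable {G : Type*} [Group G]

/-- The data of a local subgroup `N(V) = V.A₅` with Sylow `2`-subgroup `S`. -/
structure Lc (V S : Subgroup G) (θ : G) : Prop where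
  el : IsElementaryAbelian 2 V
  ne : V ≠ ⊥
  le : V ≤ S
  syl : Syl 2 S 𝐍(V)
  idx : V.relIndex S = 4
  sq : ∀ s ∈ S, s * s ∈ V
  cent : 𝐂(V) ≤ V
  half : ∀ s ∈ S, s ∉ V → Nat.card ↥(V ⊓ 𝐂[s]) ^ 2 ≤ Nat.card V
  five : Nat.card V % 5 = 1
  nV : θ ∈ 𝐍(V)
  nS : θ ∈ 𝐍(S)
  out : θ ∉ S
  irr : ∀ X ≤ S, θ ∈ 𝐍(X) → X ≤ V ∨ S ≤ V ⊔ X
  max : ∀ C : Subgroup G, IsPGroup 2 C → C ≠ ⊥ → 𝐍(V) ≤ 𝐍(C) → 𝐍(C) ≤ 𝐍(V)

set_option synthInstance.maxSize 1000 in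
theorem a5_four : ∃ t c : alternatingGroup (Fin 5), Fintype.card {x // x * t = t * x} = 4 ∧ c * t ≠ t * c ∧
    ∀ x, x * t = t * x → x * x = 1 ∧ c * x * c⁻¹ * t = t * (c * x * c⁻¹) ∧ (x ≠ 1 →
      (∃ g, (x * (g * x * g⁻¹)) ^ 5 = 1 ∧ x * (g * x * g⁻¹) ≠ 1) ∧
        ∀ y, y * t = t * y → y = 1 ∨ y = x ∨ y = c * x * c⁻¹ ∨ y = x * (c * x * c⁻¹)) :=
  ⟨⟨swap 0 1 * swap 2 3, mem_alternatingGroup.2 (by decide)⟩,
    ⟨swap 0 1 * swap 1 2, mem_alternatingGroup.2 (by decide)⟩, by decide +kernel⟩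

variable [Finite G]

theorem le_ker_of_ten {X : Type*} [Group X] (h : ∀ N : Subgroup X, N.Normal → N ≠ ⊥ → 10 ∣ Nat.card N)
    {π : G →* X} (hπ : Function.Surjective π) {p : ℕ} [Fact p.Prime] {T : Subgroup G} (hn : T.Normal)
    (hT : IsPGroup p T) : T ≤ π.ker := by
  have := Finite.of_surjective π hπ
  refine (Subgroup.map_eq_bot_iff T).1 (by_contra fun e => ?_)
  have := h _ (hn.map π hπ) e
  have h2 := pgroup_eq_of_dvd (hT.map π) Nat.prime_two ((by norm_num : 2 ∣ 10).trans this)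
  have h5 := pgroup_eq_of_dvd (hT.map π) Nat.prime_five ((by norm_num : 5 ∣ 10).trans this)
  omega

theorem ten_alt {n : ℕ} (hn : n = 5 ∨ n = 6) : 10 ∣ Nat.card (alternatingGroup (Fin n)) := by
  rcases hn with rfl | rfl
  exacts [card_a5 ▸ by norm_num, card_a6 ▸ by norm_num]

theorem ten_alt' {n : ℕ} (hn : n = 5 ∨ n = 6) (N : Subgroup (alternatingGroup (Fin n))) (h : N.Normal)
    (h1 : N ≠ ⊥) : 10 ∣ Nat.card N := by
  have := alternatingGroup.isSimpleGroup (α := Fin n) (by simp; omega)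
  rw [h.eq_bot_or_eq_top.resolve_left h1, card_top]
  exact ten_alt hn

theorem ten_perm {n : ℕ} (hn : n = 5 ∨ n = 6) (N : Subgroup (Perm (Fin n))) (h : N.Normal)
    (h1 : N ≠ ⊥) : 10 ∣ Nat.card N :=
  (ten_alt hn).trans (card_dvd (alternatingGroup_le_of_normal (by simp; omega) ((nontrivial_iff_ne_bot N).2 h1)))

theorem Ty6.of_normal (h : Ty6 G) {p : ℕ} [Fact p.Prime] {T : Subgroup G} (hn : T.Normal) (hT : IsPGroup p T)
    (h1 : T ≠ ⊥) : ∃ ρ : G →* alternatingGroup (Fin 5), Function.Surjective ρ ∧ IsElementaryAbelian 2 ρ.ker ∧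
      T ≤ ρ.ker := by
  have k : ∀ {X : Type} [Group X] (e : G ≃* X), ¬ ∀ N : Subgroup X, N.Normal → N ≠ ⊥ → 10 ∣ Nat.card N :=
    fun e a => h1 (eq_bot_mono ((MonoidHom.ker_eq_bot_iff e.toMonoidHom).2 e.injective)
      (le_ker_of_ten a e.surjective hn hT))
  rcases h with (⟨⟨e⟩⟩ | ⟨⟨e⟩⟩ | ⟨⟨e⟩⟩) | ⟨ρ, a, b⟩
  exacts [(k e (ten_alt' (.inr rfl))).elim, (k e (ten_perm (.inl rfl))).elim, (k e (ten_perm (.inr rfl))).elim,
    ⟨ρ, a, b, le_ker_of_ten (ten_alt' (.inl rfl)) a hn hT⟩]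

theorem Om6.exists_lc [IsSimpleGroup G] (h : Om6 G)
    (ih : ∀ H : Subgroup G, H ≠ ⊤ → ¬ Group.IsSolvable H → Ty6 H) (hN : ¬ IsNGroup G) :
    ∃ (V S : Subgroup G) (θ : G), Lc V S θ := by
  have := Fact.mk Nat.prime_five
  obtain ⟨H, hH⟩ := not_forall.1 hN
  obtain ⟨H, -, ⟨⟨p, T, hp, pT, T1, rfl⟩, hs⟩, hm⟩ := Core.exists_maximal_ge
    (P := fun H : Subgroup G => IsLocalSubgroup H ∧ ¬ Group.IsSolvable H) (Classical.not_imp.1 hH)
  have := Fact.mk hp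
  replace hm : ∀ C : Subgroup G, IsPGroup 2 C → C ≠ ⊥ → 𝐍(T) ≤ 𝐍(C) → 𝐍(C) = 𝐍(T) := fun C a b c =>
    hm _ ⟨⟨2, C, Nat.prime_two, a, b, rfl⟩, fun e => hs (sol_of_le e c)⟩ c
  obtain ⟨ρ, hρ, eρ, hT⟩ := (ih _ (fun e => hs (sol_of_le (pgroup_sol pT)
    (((normalizer_eq_top_iff.1 e).eq_bot_or_eq_top.resolve_left T1).ge.trans' le_top))) hs).of_normal
    (Nml.norm_self T).normal pT.comap_subtype (mt (subOf_eq_bot_iff (le_norm T)).1 T1)
  have V1 := ne_bot_mono (mt (subOf_eq_bot_iff (le_norm T)).1 T1) hT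
  generalize 𝐍(T) = H at *
  have i := H.subtype_injective
  have pρ := PGroup.elemAb_isPGroup eρ
  have V1' := mt (map_eq_bot_iff_of_injective _ i).1 V1
  have nV := Nml.of_normal H ρ.ker
  have e := hm _ (pρ.map _) V1' nV.norm
  have mV : ∀ {x : H}, (x : G) ∈ ρ.ker.map H.subtype ↔ ρ x = 1 := mem_map_iff_mem i
  obtain ⟨t, c, c1, c2, c3⟩ := a5_four
  obtain ⟨θ, rfl⟩ := hρ c
  have mS : ∀ {x : H}, (x : G) ∈ (𝐂[t].comap ρ).map H.subtype ↔ ρ x * t = t * ρ x :=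
    (mem_map_iff_mem i).trans mem_cent1
  have c4 : Nat.card 𝐂[t] = 4 := by
    rw [← c1, ← Nat.card_eq_fintype_card]; exact Nat.card_congr (Equiv.subtypeEquivRight fun _ => mem_cent1)
  have f5 : ∀ f : H, ρ f ^ 5 = 1 → ρ f ≠ 1 → ρ.ker.map H.subtype ⊓ 𝐂[(f : G)] = ⊥ := fun f a b =>
    h.five' (by norm_num) (pρ.map _) (h.order_five (by
      rw [orderOf_coe]; exact orderOf_eq_prime a b ▸ orderOf_map_dvd ρ f))
  refine ⟨ρ.ker.map H.subtype, (𝐂[t].comap ρ).map H.subtype, θ, PGroup.elemAb_map _ eρ, V1',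
    map_mono (ker_le_comap _ _), ?_, ?_, ?_, fun x hx => ?_, ?_, ?_, e.ge θ.2, mem_normalizer_fintype ?_,
    fun a => c2 (mS.1 a), fun X hX nX => ?_, fun C a b c => (hm C a b (e.ge.trans c)).le.trans e.ge⟩
  · rw [e]
    refine Syl.mk' (map_subtype_le _) (((IsPGroup.of_card (n := 2) c4).comap_of_ker_isPGroup _ pρ).map _) ?_
    have := 𝐂[t].card_mul_index
    rw [relIndex, subgroupOf, comap_map_eq_self_of_injective i, index_comap_of_surjective _ hρ]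
    rw [c4, card_a5] at this
    omega
  · rw [relIndex_map_map_of_injective _ _ i, relIndex_ker, map_comap_eq_self_of_surjective hρ, c4]
  · rintro _ ⟨s, hs, rfl⟩
    exact mV.2 ((map_mul ρ s s).trans (c3 _ (mem_cent1.1 hs)).1)
  · have hx' := e.le (cent_le_norm _ hx)
    exact mV.2 (((h.sub H).cent_simple hρ pρ V1 (ten_alt (.inl rfl))).le (mem_map_of_mem ρ (x := ⟨x, hx'⟩)
      (mem_cent.2 fun y hy => Subtype.ext (mem_cent.1 hx _ (mem_map_of_mem _ hy)))))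
  · rintro _ ⟨s, hs, rfl⟩ s1
    obtain ⟨⟨g, g1, g2⟩, -⟩ := (c3 _ (mem_cent1.1 hs)).2.2 (mt mV.2 s1)
    obtain ⟨g, rfl⟩ := hρ g
    have e1 := f5 (s * (g * s * g⁻¹)) (by simpa using g1) (by simpa using g2)
    have eV := (PGroup.elemAb_map H.subtype eρ).1
    generalize ρ.ker.map H.subtype = V at *
    have e2 : Nat.card ↥(V ⊓ 𝐂[(g * s * (g : G)⁻¹ : G)]) = Nat.card ↥(V ⊓ 𝐂[(s : G)]) := by
      rw [← conj_cent1, ← card_conj (g : G) (V ⊓ 𝐂[(s : G)]), conj_inf, nV.conj_eq g.2]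
    have e3 := Core.card_sup_of_disjoint (H := V ⊓ 𝐂[(s : G)]) (N := V ⊓ 𝐂[(g * s * (g : G)⁻¹ : G)])
      (norm_of_cent (abelian_cent' eV inf_le_left inf_le_left)) (eq_bot_mono e1 fun y hy =>
        ⟨hy.1.1, mem_cent1_symm (mul_mem (mem_cent1_symm hy.1.2) (mem_cent1_symm hy.2.2))⟩)
    rw [e2, ← sq] at e3
    exact e3 ▸ card_le_of_le (sup_le inf_le_left inf_le_left)
  · obtain ⟨f, a, f1, f2, -⟩ := cf5.2
    obtain ⟨f, rfl⟩ := hρ f
    have := card_modEq_card_inf_centralizer (q := 5) (A := zpowers (f : G)) (T := ρ.ker.map H.subtype)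
      (IsPGroup.of_card (n := 1) (by
        rw [Nat.card_zpowers, h.order_five (by
          rw [orderOf_coe]; exact orderOf_eq_prime f2 f1 ▸ orderOf_map_dvd ρ f), pow_one]))
      (zpowers_le.2 (nV.norm f.2))
    rwa [cent_zpowers, f5 f f2 f1, card_bot] at this
  · rintro _ ⟨s, hs, rfl⟩
    exact (mS (x := θ * s * θ⁻¹)).2 (by simpa using (c3 _ (mem_cent1.1 hs)).2.1)
  · refine or_iff_not_imp_left.2 fun a => ?_
    obtain ⟨x, hx, x1⟩ := SetLike.not_le_iff_exists.1 a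
    obtain ⟨x, hx', rfl⟩ := hX hx
    rintro _ ⟨s, hs, rfl⟩
    have k : ∀ y : H, (y : G) ∈ X → ρ s = ρ y → (s : G) ∈ ρ.ker.map H.subtype ⊔ X := fun y a b => by
      simpa using mul_mem_sup ((mV (x := s * y⁻¹)).2 (by simp [b])) a
    have hx2 := conj_mem_of_norm nX hx
    rcases ((c3 _ (mem_cent1.1 hx')).2.2 (mt mV.2 x1)).2 _ (mem_cent1.1 hs) with b | b | b | b
    exacts [k 1 X.one_mem (by simpa using b), k x hx b, k (θ * x * θ⁻¹) hx2 (by simpa using b),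
      k (x * (θ * x * θ⁻¹)) (X.mul_mem hx hx2) (by simpa using b)]

end Cfsg.Lib.Spec2
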