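import Cfsg.Agent.Lib.Spec2.O6D
import Cfsg.Agent.Lib.Loc.ParChar
import Cfsg.Agent.Lib.Inv.SylowTwo
import Cfsg.Agent.Lib.Inv.FourGroup
import Cfsg.Agent.Lib.PGroup.SectionRep
import Cfsg.Agent.Lib.PLocal.Thompson
import Cfsg.Prelude.Def_BaumannBlocks

/-!
# Simple groups whose elements have order at most six: the case `V = J(S)`
-/

set_option autoImplicit false

namespace Cfsg.Lib.Spec2

open Subgroup Cfsg.Lib Cfsg.Lib.BG Cfsg.Lib.Transfer

variable {G : Type*} [Group G] [Finite G] {V S : Subgroup G} {θ : G}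

namespace Lc

variable (c : Lc V S θ)
include c

omit [Finite G] in
theorem card_S : Nat.card S = Nat.card V * 4 := c.idx ▸ (BG.card_mul_relIndex c.le).symm

theorem sixteen : 16 ≤ Nat.card V ∧ (Nat.card V ≤ 64 → Nat.card V = 16) := by
  obtain ⟨k, hk⟩ := PGroup.elemAb_card c.el
  have h1 := c.five
  have h2 := card_ne_one c.ne
  rw [hk] at h1 h2 ⊢
  rcases le_or_gt k 6 with e | e
  · interval_cases k <;> omega
  · have := Nat.pow_le_pow_right two_pos e
    omega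

omit [Finite G] in
theorem comm {s t : G} (hs : s ∈ S) (ht : t ∈ S) : s * t * s⁻¹ * t⁻¹ ∈ V := by
  have := mul_mem (mul_mem (c.sq _ (mul_mem hs ht)) (conj_mem_of_norm' (c.syl.le ht) (inv_mem (c.sq s hs))))
    (inv_mem (c.sq t ht))
  convert this using 1
  group

variable (hA : ∀ A ≤ S, IsElementaryAbelian 2 A → Nat.card V ≤ Nat.card A → A = V)
include hA

omit c [Finite G] in
theorem nrm (el : IsElementaryAbelian 2 V) {g : G} (hg : g ⋆ V ≤ S) : g ∈ 𝐍(V) :=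
  norm_of_conj_eq (hA _ hg (PGroup.elemAb_map _ el) (card_conj g V).ge)

theorem sylA : Syl 2 S ⊤ := c.syl.of_norm_le le_top fun _ hg => nrm hA c.el (conj_le_of_norm c.le hg.2)

theorem cent_le (h : Om6 G) (lc : IsOfLocalCharacteristic 2 G) : 𝐂(𝐙(S)) ≤ 𝐍(V) := by
  have := Fact.mk Nat.prime_three
  have pS := c.syl.pgroup
  have ZV : 𝐙(S) ≤ V := inf_le_right.trans ((cent_anti c.le).trans c.cent)
  have Z1 := center_ne_bot_of_nil (pgroup_nil pS) (ne_bot_mono c.ne c.le)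
  have toZ : ∀ X : Subgroup G, S ≤ V ⊔ X → V ⊓ 𝐂(X) ≤ 𝐙(S) := fun X hX => le_inf (inf_le_left.trans c.le)
    ((le_cent_sup (inf_le_left.trans (abelian_cent c.el.1)) inf_le_right).trans (cent_anti hX))
  have θC : θ ∈ 𝐍(𝐂(𝐙(S))) := norm_cent (norm_center le_rfl) c.nS
  have θZ : θ ∈ 𝐍(𝐙(S)) := norm_center le_rfl c.nS
  have SC : S ≤ 𝐂(𝐙(S)) := cent_symm inf_le_right
  have ch := Loc.localChar_cent lc (pgroup_of_le pS inf_le_left : IsPGroup 2 ↥𝐙(S)) Z1
  have ZS : 𝐙(S) ≤ 𝐂(S) := inf_le_right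
  generalize 𝐙(S) = Z at *
  have sC := (c.sylA hA).of_le SC le_top
  have ZR : Z ≤ 𝐎({2}, 𝐂(Z)) :=
    pcore_max_p (pgroup_of_le pS (ZV.trans c.le)) (Nml.of_cent le_rfl ((ZV.trans c.le).trans SC))
  have CR : 𝐂(𝐎({2}, 𝐂(Z))) ≤ 𝐎({2}, 𝐂(Z)) := by
    rw [Loc.IsChP, Loc.core_eq_pcore] at ch
    exact (le_inf (cent_anti ZR) le_rfl).trans ch
  have θR : θ ∈ 𝐍(𝐎({2}, 𝐂(Z))) := norm_pcore le_rfl _ θC
  have RS := sC.pcore_le
  have nR := pcore_nml {2} 𝐂(Z)
  have mR : ∀ K : Subgroup G, IsPGroup 2 K → Nml K 𝐂(Z) → K ≤ 𝐎({2}, 𝐂(Z)) := fun K => pcore_max_p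
  have bs : ∀ v ∈ V, v ∉ 𝐎({2}, 𝐂(Z)) → ∃ y ∈ 𝐂(Z), y ≠ 1 ∧ Odd (orderOf y) ∧ v * y * v⁻¹ = y⁻¹ :=
    fun v hv e => Inv.exists_odd_inverted_of_not_mem_pCore_map (SC (c.le hv)) ((pow_two v).symm.trans (c.el.2 v hv))
      (pcore_p_eq 2 𝐂(Z) ▸ e)
  generalize 𝐎({2}, 𝐂(Z)) = R at *
  have pR := pgroup_of_le pS RS
  by_contra hn
  have VR : ¬ V ≤ R := fun e => hn fun g hg => nrm hA c.el ((conj_le_of_norm e (nR.norm hg)).trans RS)
  have RV : ¬ R ≤ V := fun e => VR ((abelian_cent' c.el.1 le_rfl e).trans CR)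
  have SR := (c.irr R RS θR).resolve_left RV
  obtain ⟨v, hv, vR⟩ := SetLike.not_le_iff_exists.1 VR
  obtain ⟨y, hy, y1, oy, e⟩ := bs v hv vR
  obtain ⟨z, hz, z1⟩ := exists_ne_one Z1
  have n5 := h.not_five (y := z) (fun e => absurd (e.trans (orderOf_dvd_of_pow_eq_one (c.el.2 z (ZV hz))))
    (by norm_num)) z1 (cent_le_cent1 hz)
  have o3 : orderOf y = 3 := by
    have h1 := h y
    have h2 := mt orderOf_eq_one_iff.1 y1
    have h3 : orderOf y ≠ 5 := fun e => n5 (e ▸ orderOf_dvd_natCard _ hy)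
    obtain ⟨k, hk⟩ := oy
    omega
  have cop : ∀ u : G, orderOf u = 3 → ∀ K ≤ R, (Nat.card (zpowers u)).Coprime (Nat.card K) := fun u hu K hK =>
    coprime_pgroups (IsPGroup.of_card (p := 3) (n := 1) ((Nat.card_zpowers u).trans hu)) (pgroup_of_le pR hK)
      (by norm_num)
  have yD : ∀ D : Subgroup G, v ∈ D → y * v * y⁻¹ ∈ D → y ∈ D := fun D a b => by
    have e1 : y * v * y⁻¹ * v⁻¹ = y ^ 2 := by
      rw [show y * v * y⁻¹ * v⁻¹ = y * (v * y * v⁻¹)⁻¹ by group, e, inv_inv, pow_two]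
    have := D.pow_mem (e1 ▸ mul_mem b (inv_mem a)) 2
    rwa [← pow_mul, pow_eq_pow_mod _ (o3 ▸ pow_orderOf_eq_one y), pow_one] at this
  have nW : S ≤ 𝐍(R ⊓ V) := norm_inf (SC.trans nR.norm) c.syl.le
  have vW : v ∈ 𝐂(R ⊓ V) := abelian_cent' c.el.1 le_rfl inf_le_right hv
  have yR := conj_le_of_norm (inf_le_left : R ⊓ V ≤ R) (nR.norm hy)
  have yW : ¬ y ⋆ (R ⊓ V) ≤ V := fun a => by
    have a1 := norm_of_conj_eq (eq_of_le_of_card_le (le_inf yR a) (card_conj _ _).ge)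
    have a2 : v ∈ PGroup.commStab (R ⊓ V) R := ⟨nW (c.le hv), fun r hr =>
      ⟨R.mul_mem (conj_mem_of_norm (nR.norm (SC (c.le hv))) hr) (R.inv_mem hr), c.comm (c.le hv) (RS hr)⟩⟩
    have a3 := CR (stable_factor_cent (PGroup.commutator_le_of_le_commStab (zpowers_le.2 (yD _ a2
      (conj_mem_of_norm (PGroup.le_normalizer_commStab (zpowers_le.2 a1) (zpowers_le.2 (nR.norm hy))
        (mem_zpowers y)) a2)))) (zpowers_le.2 (yD _ vW (conj_mem_of_norm (norm_cent le_rfl a1) vW)))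
      (cop y o3 _ inf_le_left) (mem_zpowers y))
    exact absurd (pgroup_eq_of_dvd pR Nat.prime_three (o3 ▸ orderOf_dvd_natCard _ a3)) (by norm_num)
  have RR : ⁅R, R⁆ ≤ Z := by
    let Y : Subgroup G := ⨅ g ∈ 𝐂(Z), g ⋆ (R ⊓ V)
    have mY : ∀ {r}, r ∈ Y ↔ ∀ g ∈ 𝐂(Z), g⁻¹ * r * g ∈ R ⊓ V := by simp only [Y, mem_iInf, mem_conj, implies_true]
    have θY : θ ∈ 𝐍(Y) := mem_normalizer_fintype fun r hr => mY.2 fun g hg => by
      have := conj_mem_of_norm (norm_inf (zpowers_le.2 θR) (zpowers_le.2 c.nV) (mem_zpowers θ))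
        (mY.1 hr _ (conj_mem_of_norm' θC hg))
      convert this using 1
      group
    have a := (c.irr (R ⊓ 𝐂(Y)) (inf_le_left.trans RS)
      (norm_inf (zpowers_le.2 θR) (norm_cent (zpowers_le.2 θY)) (mem_zpowers θ))).resolve_left fun a =>
        yW ((le_inf yR (abelian_cent' ((abelian_conj y).2 (abelian_of_le c.el.1 inf_le_right)) le_rfl
          fun r hr => mem_conj.2 (mY.1 hr y hy))).trans a)
    refine le_trans (comm_le_iff.2 fun a ha b hb => mY.2 fun g hg => ?_) (le_trans (le_inf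
      (fun r hr => by simpa using (mY.1 hr 1 (one_mem _)).2) (cent_symm inf_le_right)) (toZ _ a))
    have ha' := conj_mem_of_norm' (nR.norm hg) ha
    have hb' := conj_mem_of_norm' (nR.norm hg) hb
    rw [show g⁻¹ * (a * b * a⁻¹ * b⁻¹) * g = g⁻¹ * a * g * (g⁻¹ * b * g) * (g⁻¹ * a * g)⁻¹ * (g⁻¹ * b * g)⁻¹ by group]
    exact ⟨R.mul_mem (R.mul_mem (R.mul_mem ha' hb') (R.inv_mem ha')) (R.inv_mem hb'), c.comm (RS ha') (RS hb')⟩
  have ZRR : 𝐙(R) ≤ Z := by
    rcases c.irr 𝐙(R) (inf_le_left.trans RS) (norm_center le_rfl θR) with a | a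
    · exact (le_inf a inf_le_right).trans (toZ R SR)
    refine (yW ((conj_eq_of_cent (cent_anti ((le_inf inf_le_right ?_).trans (toZ _ a)) hy)).le.trans
      inf_le_right)).elim
    exact inf_le_left.trans (cent_symm inf_le_right)
  have fix : ∀ u ∈ 𝐂(Z), orderOf u = 3 → R ⊓ 𝐂[u] ≤ Z := fun u hu ou => by
    have a1 : zpowers u ≤ 𝐂(R ⊓ 𝐂[u]) := cent_symm (cent_zpowers u ▸ inf_le_right)
    have a2 := coprime_cent_prod (zpowers_le.2 (nR.norm hu)) (cop u ou R le_rfl) (.inr (pgroup_sol pR))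
    rw [cent_zpowers] at a2
    refine (le_inf inf_le_left ((le_cent_sup (comm_eq_bot_iff'.1 (commutator_commutator_eq_bot_of_rotate
      (by rw [comm_eq_bot_iff.2 a1, commutator_bot_left]) (comm_eq_bot_iff'.2 ((zpowers_le.2 hu).trans
        (cent_anti ((comm_le_der inf_le_left le_rfl).trans RR)))))) (abelian_cent (h.elem_cent pR ou).1)).trans
        (cent_anti a2.ge))).trans ZRR
  have i3 : S.relIndex 𝐂(Z) = 3 := by
    obtain ⟨P, hP⟩ := Syl.exists 3 𝐂(Z)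
    obtain ⟨u, hu, u1⟩ := exists_ne_one (center_ne_bot_of_nil hP.nil (hP.ne_bot' (o3 ▸ orderOf_dvd_natCard _ hy)))
    have o : ∀ x ∈ P, x ≠ 1 → orderOf x = 3 := fun x hx =>
      orderOf_eq_prime (h.pow_odd Nat.prime_three (by norm_num) hP.pgroup hx)
    rw [sC.relIndex_eq (K := P) (hP.congr fun q hq hd => by
      rcases (h.sub _).prime_le hq hd with rfl | rfl | rfl <;> simp_all), ← o u hu.1 u1, ← Nat.card_zpowers,
      le_antisymm (zpowers_le.2 hu.1) fun x hx => by_contra fun x1 => ?_]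
    have hl : zpowers u ⊔ zpowers x ≤ P := sup_le (zpowers_le.2 hu.1) (zpowers_le.2 hx)
    refine RV ((coprime_abelian_gen_cent1 (abelian_sup inferInstance inferInstance
      ((zpowers_le.2 hu.2).trans (cent_anti (zpowers_le.2 hx)))) (fun a => x1 ?_) (hl.trans (hP.le.trans nR.norm))
      (coprime_pgroups (pgroup_of_le hP.pgroup hl) pR (by norm_num)) fun a ha a1 =>
        fix a (hP.le (hl ha)) (o a (hl ha) a1)).trans ZV)
    obtain ⟨a, ha, e⟩ := cyclic_iff.1 a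
    refine (eq_of_le_of_card_le le_sup_left ?_).ge (mem_sup_right (mem_zpowers x))
    rw [← e, Nat.card_zpowers, Nat.card_zpowers, o u hu.1 u1]
    exact orderOf_le_of_pow_eq_one three_pos (h.pow_odd Nat.prime_three (by norm_num) hP.pgroup (hl ha))
  have i2 : Nat.card S ≤ Nat.card R * 2 := by
    have a1 : (S.subgroupOf 𝐂(Z)).normalCore.index ∣ (S.subgroupOf 𝐂(Z)).index.factorial := by
      rw [normalCore_eq_ker, index_ker, index_eq_card, ← Nat.card_perm]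
      exact card_subgroup_dvd_card _
    have a2 := (index_dvd_of_le (map_le_iff_le_comap.1 (mR _ ((pS.comap_subtype.to_le (normalCore_le _)).map _)
      (Nml.of_normal _ (S.subgroupOf 𝐂(Z)).normalCore)))).trans a1
    change R.relIndex 𝐂(Z) ∣ (S.relIndex 𝐂(Z)).factorial at a2
    rw [← relIndex_mul_relIndex _ _ _ RS SC, i3] at a2
    have := Nat.le_of_dvd (by decide) a2
    rw [← BG.card_mul_relIndex RS]
    exact Nat.mul_le_mul_left _ (by simp only [Nat.factorial] at this; omega)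
  have k1 := Core.card_sup_mul_card_inf (RS.trans c.syl.le)
  rw [le_antisymm (sup_le RS c.le) (sup_comm V R ▸ SR), c.card_S, mul_assoc, mul_comm (Nat.card R)] at k1
  replace k1 := Nat.eq_of_mul_eq_mul_left Nat.card_pos k1
  have k2 := Core.card_sup_mul_card_inf (H := R ⊓ V) (N := y ⋆ (R ⊓ V)) (inf_le_left.trans
    ((nR.conj_eq hy).ge.trans (map_norm _ (RS.trans nW))))
  have k3 := Nat.mul_le_mul (card_le_of_le (sup_le (inf_le_left : R ⊓ V ≤ R) yR)) (card_le_of_le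
    (show R ⊓ V ⊓ y ⋆ (R ⊓ V) ≤ Z from fun x hx => fix y hy o3 ⟨hx.1.1, mem_cent1_symm (yD _
      (cent_le_cent1 hx.1 vW) (cent_le_cent1 hx.2 (by
        rw [← conj_centralizer]; exact conj_mem_conj.2 vW)))⟩))
  rw [k2, card_conj, ← k1, mul_comm 4, mul_assoc] at k3
  replace k3 := Nat.le_of_mul_le_mul_left k3 Nat.card_pos
  obtain ⟨s, hs, s1⟩ := SetLike.not_le_iff_exists.1 RV
  have k4 := (Nat.pow_le_pow_left (card_le_of_le (le_inf ZV (ZS.trans (cent_le_cent1 (RS hs))))) 2).trans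
    (c.half s (RS hs) s1)
  have k5 := card_modEq_card_inf_centralizer (IsPGroup.of_card (p := 3) (n := 1) ((Nat.card_zpowers y).trans o3))
    (zpowers_le.2 (nR.norm hy))
  rw [cent_zpowers, le_antisymm (fix y hy o3) (le_inf ZR (le_cent1_iff.2 hy))] at k5
  have k6 := card_lt_of_lt (inf_lt_right.2 VR)
  have k7 := card_dvd (inf_le_right : R ⊓ V ≤ V)
  rw [c.card_S] at i2
  have k8 := c.sixteen.2 (by nlinarith)
  have k9 : Nat.card Z = 2 := by
    have : Nat.card Z ≤ 4 := by nlinarith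
    rw [k8] at k6 k7 i2
    generalize Nat.card ↥(R ⊓ V) = w at *
    unfold Nat.ModEq at k5
    interval_cases w <;> omega
  have θZ' : θ ∈ 𝐂(Z) := by
    rw [← cent1_eq_of_prime (k9 ▸ Nat.prime_two) hz z1, mem_cent1, ← mul_inv_eq_iff_eq_mul]
    have := conj_mem_of_norm θZ hz
    rw [← zpowers_eq_of_prime (k9 ▸ Nat.prime_two) hz z1] at this
    exact ((Inv.mem_zpowers_iff_of_mul_self ((pow_two z).symm.trans (c.el.2 z (ZV hz)))).1 this).resolve_left (by simpa using z1)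
  have a := relIndex_mul_relIndex S (𝐂(Z) ⊓ 𝐍(S)) 𝐂(Z) (le_inf SC (le_norm S)) inf_le_left
  rcases (Nat.prime_three.eq_one_or_self_of_dvd _ (Dvd.intro _ (a.trans i3))) with b | b
  · exact c.out (relIndex_eq_one.1 b ⟨θZ', c.nS⟩)
  rw [b, i3] at a
  exact hn fun g hg => nrm hA c.el (conj_le_of_norm c.le ((relIndex_eq_one (H := 𝐂(Z) ⊓ 𝐍(S))).1 (by omega) hg).2)

theorem cstar_le (h : Om6 G) (lc : IsOfLocalCharacteristic 2 G) : cStarOf 2 S ≤ 𝐍(V) := by
  have e1 : PLocal.maxIn 2 S = {V} := Set.eq_singleton_iff_unique_mem.2 ⟨⟨c.le, c.el, fun B a b =>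
    (le_total _ _).elim id fun e => (hA B a b e) ▸ le_rfl⟩, fun A a => hA A a.1 a.2.1 (a.2.2 V c.le c.el)⟩
  have e2 : centerThompsonOf 2 S = V := by
    change thompsonSubgroupOf 2 S ⊓ 𝐂(thompsonSubgroupOf 2 S) = V
    rw [PLocal.thompsonSubgroupOf_eq_sSup, e1, sSup_singleton, inf_eq_left.2 (abelian_cent c.el.1)]
  have e3 : baumannSubgroupOf 2 S = V := by
    change S ⊓ 𝐂(omegaOne 2 (centerThompsonOf 2 S)) = V
    rw [e2, PGroup.elemAb_omegaOne_eq c.el]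
    exact le_antisymm (inf_le_right.trans c.cent) (le_inf c.le (abelian_cent c.el.1))
  refine sup_le (le_trans (cent_anti (PGroup.elemAb_omegaOne_eq (PGroup.elemAb_of_le c.el
    (inf_le_right.trans ((cent_anti c.le).trans c.cent)))).ge) (c.cent_le hA h lc)) ?_
  rw [e3]
  refine iSup_le fun ⟨C, h1, h2, h3⟩ => c.max C (pgroup_of_le (PGroup.elemAb_isPGroup c.el) h1) h2 ?_
  simpa only [subOf_map h1] using Core.normalizer_le_normalizer_map_subtype (C.subgroupOf V)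

end Lc

end Cfsg.Lib.Spec2
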